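import Cfsg.Agent.L16.Defs
import Cfsg.Agent.S4488
import Cfsg.Agent.H7.Galois
import Cfsg.Agent.H34.Col
import Cfsg.Agent.H34.AbThree
import Cfsg.Agent.H31.MinRed

set_option autoImplicit false
set_option linter.unusedSectionVars false

namespace Cfsg.Agent.L16

open Subgroup Cfsg Cfsg.Agent.H35

section
variable {G : Type*} [Group G] [Finite G]

theorem schur {χ : G → ℂ} (hχ : IsCharacter G χ) (hf : Fa χ) (hz : ∀ g, ∃ z : ℤ, χ g = z) {r : ℕ}
    (hr : r.Prime) : (Nat.card G).factorization r ≤ sb (charDegree χ) r :=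
  S4488.result r hr χ hχ hf ⟨1, one_pos, fun h => hr.one_lt.ne' (Nat.dvd_one.mp h), fun g => by
    obtain ⟨z, hz⟩ := hz g
    rw [hz]; exact intCast_mem _ z⟩ _ rfl

theorem int_dvd {χ : G → ℂ} (hχ : IsCharacter G χ) {r : ℕ} (hr : r.Prime) {g : G}
    (hg : orderOf g = r) {z : ℤ} (hz : χ g = z) : (r : ℤ) ∣ z - charDegree χ := by
  have := Fact.mk hr
  obtain ⟨k, _, _, ⟨φ⟩⟩ := exists_residue r
  obtain ⟨d, μ, h1, h2, h3⟩ := H5.exists_eigenvalues hχ g
  rw [hg] at h2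
  let a : Fin d → integralClosure ℤ ℂ := fun i =>
    ⟨μ i, IsIntegral.of_pow hr.pos (by rw [h2]; exact isIntegral_one)⟩
  have h4 : ∀ i, φ (a i) = 1 := fun i => by
    have h : a i ^ r = 1 := Subtype.ext (h2 i)
    have h' : (φ (a i) - 1) ^ r = 0 := by rw [sub_pow_char, ← map_pow, h]; simp
    exact sub_eq_zero.mp (pow_eq_zero_iff hr.ne_zero |>.mp h')
  have h5 : ∑ i, a i = (z : integralClosure ℤ ℂ) := Subtype.ext (by
    have := h3 1
    simp only [zpow_one] at this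
    simp [a, ← this, hz])
  have h6 := congrArg φ h5
  simp only [map_sum, h4, map_intCast] at h6
  rw [← CharP.intCast_eq_zero_iff k r, charDegree_eq h1]
  simp [← h6]

theorem tau_of_dvd {r : ℕ} [Fact r.Prime] (T : Setup G r) {χ : IrrCharacter G}
    (h : r ∣ charDegree (χ : G → ℂ)) :
    ∃ τ : T.V → ℂ, IsCharacter T.V τ ∧ ∀ v : T.V, (χ : G → ℂ) (v : T.K) = r * τ v := by
  obtain ⟨τ, h1, h2⟩ := T.exists_tau (H5.isCharacter_of_isIrr χ.2)
  refine ⟨τ, h1, fun v => ?_⟩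
  rw [← h2, Finset.sum_eq_single 0 (fun i _ hi => ?_) (by simp), T.xp_zero, one_mul]
  rw [T.apply_eq_sum_psi (H5.isClassFunction_of_isIrr χ.2)]
  refine Finset.sum_eq_zero fun θ _ => mul_eq_zero_of_left (by_contra fun h0 => ?_) _
  obtain ⟨B, -⟩ := T.exists_blk θ.2 χ
  exact B.not_dvd_degree θ.2 (B.mem_of_psi_ne_zero hi h0) (cast_degree_irr χ) h

end

variable {H : Type*} [Group H] [Fintype H] {p d e : ℕ} [Fact p.Prime] {T : Setup H p}
  {B : T.Blk fun _ => 1} {Θ Θ' : H → ℂ} {χ φ : IrrCharacter H}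

theorem Br.center (h : Br p e T B) : center H = ⊥ := by
  have := h.simple
  refine (inferInstance : (Subgroup.center H).Normal).eq_bot_or_eq_top.resolve_right fun hc => ?_
  have h1 : commutator H = ⊥ := by
    rw [commutator_eq_bot_iff_center_eq_top]; exact hc
  exact bot_ne_top (h1.symm.trans h.perf)

theorem Br.faith (h : Br p e T B) (hχ : χ ≠ H35.triv H) : Fa (χ : H → ℂ) :=
  have := h.simple
  simple_faithful hχ

theorem Br.abs_lt (h : Br p e T B) (hχ : χ ≠ H35.triv H) {g : H} (hg : g ≠ 1) {z : ℤ}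
    (hz : (χ : H → ℂ) g = z) : |z| < charDegree (χ : H → ℂ) := by
  have hc := H5.isCharacter_of_isIrr χ.2
  have h1 := (H5.norm_apply_le_degree hc g).lt_of_ne fun e =>
    hg (mem_bot.mp (h.center ▸ mem_center_of_norm hc (h.faith hχ) e))
  rw [hz, cast_degree_irr, Complex.norm_intCast, Complex.norm_natCast] at h1
  exact_mod_cast h1

theorem Br.invol (h : Br p e T B) (hχ : χ ≠ H35.triv H) {t : H} (ht : orderOf t = 2) :
    ∃ m : ℕ, 0 < m ∧ 2 * m < charDegree (χ : H → ℂ) ∧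
      (χ : H → ℂ) t = ((charDegree (χ : H → ℂ) - 4 * m : ℤ) : ℂ) := by
  obtain ⟨m, h1, -⟩ := H88.exists_degree_sub_eq_four_mul (H5.isCharacter_of_isIrr χ.2) (t := t)
    (by rw [← sq, ← ht, pow_orderOf_eq_one]) (h.perf ▸ mem_top t)
  have h2 : (χ : H → ℂ) t = ((charDegree (χ : H → ℂ) - 4 * m : ℤ) : ℂ) := by
    rw [h1, cast_degree_irr]; push_cast; rfl
  have h3 := _root_.abs_lt.mp (h.abs_lt hχ (g := t) (fun e => by simp [e] at ht) h2)
  exact ⟨m, by omega, by omega, h2⟩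

theorem Br.not_dvd (h : Br p e T B) {r : ℕ} (hr : r.Prime) (hrp : r ≠ p) {y c : H}
    (hy : orderOf y = r) (hc : Commute y c) : ¬ p ∣ orderOf c := fun hd => by
  have hp : p.Prime := Fact.out
  obtain ⟨g, i, v, hi, hg⟩ := T.exists_conj_xp_mul hd
  have := (Nat.card_eq_one_iff_unique.mp h.cardV).1
  rw [Subsingleton.elim v 1, OneMemClass.coe_one, OneMemClass.coe_one, mul_one] at hg
  have h1 : g * y * g⁻¹ ∈ centralizer ({T.xp i} : Set H) := by
    rw [mem_centralizer_singleton_iff, ← hg]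
    exact (hc.map (MulAut.conj g)).eq
  rw [centralizer_eq_of_mem hp T.hx (T.xp_mem i) (T.xp_ne_one hi), T.centralizer_eq h.cardV] at h1
  have h2 := orderOf_dvd_of_mem_zpowers h1
  rw [T.hx, show orderOf (g * y * g⁻¹) = r from
    ((MulAut.conj g).orderOf_eq y).trans hy] at h2
  exact hrp ((Nat.prime_dvd_prime_iff_eq hr hp).mp h2)

theorem Br.card (h : Br p e T B) :
    Nat.card H = p * e * Nat.card (Sylow p H) ∧ Nat.card (Sylow p H) % p = 1 := by
  refine ⟨by rw [T.card_eq, h.cardV, h.idx, mul_one], ?_⟩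
  have := card_sylow_modEq_one p H
  rwa [Nat.ModEq, Nat.mod_eq_of_lt (Fact.out : p.Prime).one_lt] at this

theorem Br.not_both (h : Br p e T B) {n : ℕ} {s s' : ℤ} (hs : s = 1 ∨ s = -1)
    (hs' : s' = 1 ∨ s' = -1) (h1 : (p : ℤ) ∣ n - s) (h2 : (p : ℤ) ∣ n - s' * e) : False := by
  have h3 := h.two
  have h4 := h.lt
  have h5 : (p : ℤ) ∣ s' * e - s := by simpa using dvd_sub h1 h2
  have h6 := Int.le_of_dvd (abs_pos.mpr (by rcases hs with rfl | rfl <;>
    rcases hs' with rfl | rfl <;> omega)) ((dvd_abs _ _).mpr h5)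
  rcases abs_cases (s' * e - s) with ⟨a, -⟩ | ⟨a, -⟩ <;> rw [a] at h6 <;>
    rcases hs with rfl | rfl <;> rcases hs' with rfl | rfl <;> omega

theorem Br.memX (h : Br p e T B) {s : ℤ} (hs : s = 1 ∨ s = -1)
    (hd : (p : ℤ) ∣ charDegree (χ : H → ℂ) - s) : χ ∈ B.X ∧ B.δ χ = s := by
  have hp : p.Prime := Fact.out
  have h3 := h.two
  have h4 := h.lt
  have h1 : ¬ p ∣ charDegree (χ : H → ℂ) := fun h1 => by
    have h2 : (p : ℤ) ∣ s := by simpa using dvd_sub (Int.natCast_dvd_natCast.mpr h1) hd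
    rcases hs with rfl | rfl
    · have := Int.le_of_dvd one_pos h2; omega
    · have := Int.le_of_dvd one_pos (dvd_neg.mp h2); omega
  rcases B.mem_of_not_dvd h.cardV h1 with hX | hY
  · refine ⟨hX, ?_⟩
    have h2 : (p : ℤ) ∣ B.δ χ - s := by simpa using dvd_add (B.degX' hX).dvd hd
    rcases B.δ_sign χ hX with a | a <;> rcases hs with rfl | rfl <;> rw [a] at h2 ⊢
    · have := Int.le_of_dvd (by norm_num) h2; omega
    · have := Int.le_of_dvd (by norm_num) (dvd_neg.mpr h2); omega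
  · exact (h.not_both hs B.ε_sign hd (h.idx ▸ (B.degY' hY).symm.dvd)).elim

theorem Br.memY (h : Br p e T B) (hφ : φ ∈ B.Y)
    (hd : charDegree (χ : H → ℂ) = charDegree (φ : H → ℂ)) : χ ∈ B.Y :=
  (B.mem_of_not_dvd h.cardV (hd ▸ B.not_dvd_degree H5.isIrrCharacter_one (Or.inr hφ)
    (cast_degree_irr φ))).resolve_left fun hX => h.not_both (B.δ_sign χ hX) B.ε_sign
      (B.degX' hX).symm.dvd (hd ▸ h.idx ▸ (B.degY' hφ).symm.dvd)

theorem int_of_gal {G : Type*} [Group G] [Finite G] {χ : G → ℂ} (hχ : IsCharacter G χ) {g : G}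
    (h : ∀ n : ℕ, n.Coprime (Nat.card G) → χ (g ^ n) = χ g) : ∃ z : ℤ, χ g = z :=
  H7.exists_int_character_of_pow hχ fun m hm => by
    obtain ⟨n, h1, h2⟩ := exists_coprime_modEq Nat.card_pos.ne' (orderOf_dvd_natCard g) hm
    rw [← h n h1, pow_eq_pow_iff_modEq.mpr h2]

theorem Br.intY (h : Br p e T B) (hφ : φ ∈ B.Y) {g : H} (hg : ¬ p ∣ orderOf g) :
    ∃ z : ℤ, (φ : H → ℂ) g = z :=
  int_of_gal (H5.isCharacter_of_isIrr φ.2) fun n hn => B.eq_on_regular
    (h.memY (χ := ⟨_, H7.isIrrCharacter_comp_pow hn φ.2⟩) hφ (by simp [charDegree])) hφ hg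

theorem Br.intX (h : Br p e T B) (hχ : χ ∈ B.X)
    (hu : ∀ ψ ∈ B.X, charDegree (ψ : H → ℂ) = charDegree (χ : H → ℂ) → ψ = χ) (g : H) :
    ∃ z : ℤ, (χ : H → ℂ) g = z :=
  int_of_gal (H5.isCharacter_of_isIrr χ.2) fun n hn => by
    have h1 : charDegree (fun g => (χ : H → ℂ) (g ^ n)) = charDegree (χ : H → ℂ) := by
      simp [charDegree]
    exact congrFun (congrArg Subtype.val (hu ⟨_, H7.isIrrCharacter_comp_pow hn χ.2⟩
      (h.memX (B.δ_sign χ hχ) (by rw [h1]; exact (B.degX' hχ).symm.dvd)).1 h1)) g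

theorem Br.val_x (h : Br p e T B) (F : IrrCharacter H → ℂ)
    (hF : ∀ ψ ∈ B.Y, F ψ = F φ) :
    ∑ χ : IrrCharacter H, F χ * (χ : H → ℂ) T.x = ∑ χ ∈ B.X, B.δ χ * F χ - B.ε * F φ := by
  classical
  have h1 := B.sumY_inv H5.isIrrCharacter_one T.inertia_one (i := 1) one_ne_zero 1
  simp only [OneMemClass.coe_one, mul_one, T.xp_one] at h1
  rw [B.sum_univ, Finset.sum_eq_zero (s := (B.X ∪ B.Y)ᶜ) fun χ hχ => by
    rw [Finset.mem_compl, Finset.mem_union, not_or] at hχ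
    rw [← T.xp_one, B.vanish_out h.cardV hχ.1 hχ.2 one_ne_zero, mul_zero],
    Finset.sum_congr (s₁ := B.Y) rfl fun ψ hψ => by rw [hF ψ hψ], ← Finset.mul_sum, h1,
    Finset.sum_congr rfl fun χ hχ => by rw [← T.xp_one, B.valX' hχ one_ne_zero, mul_comm]]
  ring

theorem inv_cases {a : H} (ha : a * T.x * a⁻¹ = T.x⁻¹) :
    ∃ (i : ZMod p) (k : T.K), a = T.xp i * k ∧ T.κ k = -1 := by
  obtain ⟨i, k, rfl⟩ := T.exists_decomp (n := a) (mem_normalizer_zpowers_iff.mpr (by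
    rw [ha]; exact inv_mem (mem_zpowers _)))
  refine ⟨i, k, rfl, Units.ext (T.xp_inj ?_)⟩
  have h1 := T.conj_xp k 1
  rw [T.xp_one, mul_one] at h1
  have h2 : T.xp i * T.xp (T.κ k) * (T.xp i)⁻¹ = T.x⁻¹ := by rw [← h1, ← ha]; group
  rw [(T.xp_comm i _).eq, mul_inv_cancel_right] at h2
  rw [h2, Units.val_neg, Units.val_one, T.xp_neg, T.xp_one]

theorem Br.conj_inv (h : Br p e T B) {k : T.K} (hk : T.κ k = -1) (i : ZMod p) :
    IsConj (k : H) (T.xp i * k) := by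
  have h3 := h.two
  have h4 := h.lt
  obtain ⟨j, hj⟩ := T.exists_conj_xp_mul_K (k := k) (fun hV => by
    have h1 : ((-1 : (ZMod p)ˣ) : ZMod p) = (1 : (ZMod p)ˣ) := by rw [← hk, MonoidHom.mem_ker.mp hV]
    have h2 : ((2 : ℕ) : ZMod p) = 0 := by
      simp only [Units.val_neg, Units.val_one] at h1
      push_cast; linear_combination -h1
    have := Nat.le_of_dvd two_pos ((ZMod.natCast_eq_zero_iff 2 p).mp h2)
    omega) i
  exact isConj_iff.mpr ⟨_, hj.symm⟩

open Classical in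
theorem card_conj_eq {G : Type*} [Group G] [Fintype G] (t a : G) :
    (∑ x : G, if x * t * x⁻¹ = a then (1 : ℂ) else 0) =
      if IsConj t a then (Nat.card (centralizer ({t} : Set G)) : ℂ) else 0 := by
  rw [← sum_irr_mul_conj_count, H5.sum_irr_mul_conj]
  congr

theorem Br.count (h : Br p e T B) (hφ : φ ∈ B.Y) {t : H} (ht : orderOf t = 2) :
    ∃ N : ℕ, (N = 0 ∨ N = p ∧ Even e) ∧
      (N : ℂ) * (Nat.card (centralizer ({t} : Set H)) : ℂ) ^ 2 = Nat.card H *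
        (∑ χ ∈ B.X, B.δ χ * ((χ : H → ℂ) t ^ 2 / (χ : H → ℂ) 1) -
          B.ε * ((φ : H → ℂ) t ^ 2 / (φ : H → ℂ) 1)) := by
  classical
  have hp : p.Prime := Fact.out
  have h3 := h.two
  have h4 := h.lt
  have htt : t * t = 1 := by rw [← sq, ← ht, pow_orderOf_eq_one]
  have hreg : ¬ p ∣ orderOf t := fun hd => by
    have := Nat.le_of_dvd two_pos (ht ▸ hd); omega
  let A : Finset H := Finset.univ.filter fun a => IsConj t a ∧ IsConj t (a⁻¹ * T.x)
  have h1 : H34.prodF t t T.x = A.card * (Nat.card (centralizer ({t} : Set H)) : ℂ) ^ 2 := by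
    have e1 : ∀ x : H, (∑ y : H, if x * t * x⁻¹ * (y * t * y⁻¹) = T.x then (1 : ℂ) else 0) =
        ∑ a : H, (if x * t * x⁻¹ = a then (1 : ℂ) else 0) *
          if IsConj t (a⁻¹ * T.x) then (Nat.card (centralizer ({t} : Set H)) : ℂ) else 0 := by
      intro x
      symm
      rw [Finset.sum_eq_single (x * t * x⁻¹) (fun a _ ha => by rw [if_neg ha.symm, zero_mul])
        (by simp), if_pos rfl, one_mul, ← card_conj_eq]
      exact Finset.sum_congr rfl fun y _ => by simp only [eq_inv_mul_iff_mul_eq]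
    unfold H34.prodF
    rw [Finset.sum_congr rfl fun x _ => by convert e1 x, Finset.sum_comm]
    simp only [← Finset.sum_mul, card_conj_eq]
    rw [Finset.card_filter, Nat.cast_sum, Finset.sum_mul]
    refine Finset.sum_congr rfl fun a _ => ?_
    by_cases a1 : IsConj t a <;> by_cases a2 : IsConj t (a⁻¹ * T.x) <;>
      simp only [a1, a2, if_true, if_false, and_self, and_false, false_and] <;> simp [sq]
  refine ⟨A.card, ?_, ?_⟩
  · rcases A.eq_empty_or_nonempty with a | ⟨a, ha⟩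
    · exact Or.inl (by rw [a, Finset.card_empty])
    have e1 : ∀ a ∈ A, a * T.x * a⁻¹ = T.x⁻¹ := fun a ha => by
      obtain ⟨a1, a2⟩ := (Finset.mem_filter.mp ha).2
      have b1 := H34.mul_self_of_isConj htt a1
      have b2 := H34.mul_self_of_isConj htt a2
      rw [eq_inv_iff_mul_eq_one, ← b2, ← inv_eq_of_mul_eq_one_right b1, inv_inv,
        inv_eq_of_mul_eq_one_right b1]
      group
    obtain ⟨i, k, rfl, hk⟩ := inv_cases (e1 a ha)
    have e2 : IsConj t k := (Finset.mem_filter.mp ha).2.1.trans (h.conj_inv hk i).symm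
    have e3 : A = Finset.univ.image fun j => T.xp j * k := by
      ext b
      refine ⟨fun hb => ?_, fun hb => ?_⟩
      · obtain ⟨j, l, rfl, hl⟩ := inv_cases (e1 b hb)
        exact Finset.mem_image.mpr ⟨j, Finset.mem_univ _, by
          rw [T.κ_injective h.cardV (hl.trans hk.symm)]⟩
      · obtain ⟨j, -, rfl⟩ := Finset.mem_image.mp hb
        have b1 := e2.trans (h.conj_inv hk j)
        refine Finset.mem_filter.mpr ⟨Finset.mem_univ _, b1, ?_⟩
        have b2 := T.conj_xp k 1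
        rw [T.xp_one, hk] at b2
        rw [inv_eq_of_mul_eq_one_right (H34.mul_self_of_isConj htt b1),
          show T.xp j * k * T.x = T.xp (j + (-1 : (ZMod p)ˣ) * 1) * k by
            rw [T.xp_add, ← b2]; group]
        exact e2.trans (h.conj_inv hk _)
    refine Or.inr ⟨?_, ?_⟩
    · rw [e3, Finset.card_image_of_injective _ fun i j e => T.xp_inj (mul_right_cancel e),
        Finset.card_univ, ZMod.card]
    · have b1 : orderOf (k : H) = 2 := by
        obtain ⟨c, hc⟩ := isConj_iff.mp e2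
        rw [← hc, ← ht]; exact (MulAut.conj c).orderOf_eq t
      have b2 := orderOf_dvd_natCard k
      rw [← orderOf_coe, b1, T.card_K, h.cardV, one_mul, h.idx] at b2
      exact even_iff_two_dvd.mpr b2
  · rw [← h1, H5.classFunction_apply_eq_sum (H34.prodF_isClassFunction t t), ← h.val_x (φ := φ)
      (fun χ => (χ : H → ℂ) t ^ 2 / (χ : H → ℂ) 1) fun ψ hψ => by
        rw [B.eq_on_regular hψ hφ hreg, B.eq_on_regular hψ hφ (g := 1) (by simpa using hp.ne_one)],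
      Finset.mul_sum]
    refine Finset.sum_congr rfl fun χ _ => ?_
    rw [H34.classInner_prodF, map_div₀, map_mul, H34.conj_irr_one, H34.conj_irr_of_mul_self χ htt]
    ring

theorem Br.reg_inv (h : Br p e T B) {t : H} (ht : orderOf t = 2) : ¬ p ∣ orderOf t := fun hd => by
  have := Nat.le_of_dvd two_pos (ht ▸ hd)
  have := h.two
  have := h.lt
  omega

theorem Br.e_two [DecidableEq (IrrCharacter H)] (h : Br p 2 T B) (hφ : φ ∈ B.Y) :
    ∃ χ : IrrCharacter H, χ ≠ H35.triv H ∧ B.X = {H35.triv H, χ} ∧ B.ε = B.δ χ ∧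
      B.ε * (charDegree (φ : H → ℂ) : ℤ) = 1 + B.δ χ * charDegree (χ : H → ℂ) ∧
      ∀ t : H, orderOf t = 2 → ∃ s : ℤ, (χ : H → ℂ) t = s ∧
        p * Nat.card (centralizer ({t} : Set H)) ^ 2 *
          (charDegree (χ : H → ℂ) * charDegree (φ : H → ℂ)) =
        Nat.card H * ((charDegree (χ : H → ℂ) : ℤ) - s) ^ 2 := by
  obtain ⟨χ, hχ⟩ := Finset.card_eq_one.mp ((B.card_erase h.triv).trans (by rw [h.idx]))
  have h1 : χ ≠ H35.triv H := Finset.ne_of_mem_erase (hχ ▸ Finset.mem_singleton_self χ)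
  have h2 : B.X = {H35.triv H, χ} := by rw [← Finset.insert_erase h.triv, hχ]
  have h3 := B.degree_eq hφ
  rw [h2, Finset.sum_pair h1.symm, B.δ_triv h.triv, degree_triv, Nat.cast_one, mul_one] at h3
  have h4 := two_le_degree h.perf h1
  have hδ := B.δ_sign χ (h2 ▸ by simp)
  have h5 : B.ε = B.δ χ := by
    rcases hδ with a | a <;> rcases B.ε_sign with b | b <;> rw [a, b] at h3 <;> omega
  refine ⟨χ, h1, h2, h5, h3, fun t ht => ?_⟩
  obtain ⟨m, m1, -, hs⟩ := h.invol h1 ht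
  refine ⟨_, hs, ?_⟩
  obtain ⟨N, hN, h6⟩ := h.count hφ ht
  have h7 := B.reg φ hφ t (h.reg_inv ht)
  rw [h2, Finset.sum_pair h1.symm, B.δ_triv h.triv, triv_apply] at h6 h7
  rw [triv_apply, cast_degree_irr, cast_degree_irr] at h6
  have hx : (charDegree (χ : H → ℂ) : ℂ) ≠ 0 := Nat.cast_ne_zero.mpr (degree_pos χ).ne'
  have hf : (charDegree (φ : H → ℂ) : ℂ) ≠ 0 := Nat.cast_ne_zero.mpr (degree_pos φ).ne'
  have h8 : (B.ε : ℂ) * charDegree (φ : H → ℂ) = 1 + B.δ χ * charDegree (χ : H → ℂ) := by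
    exact_mod_cast h3
  have h9 : (N : ℂ) * (Nat.card (centralizer ({t} : Set H)) : ℂ) ^ 2 *
      (charDegree (χ : H → ℂ) * charDegree (φ : H → ℂ)) =
      Nat.card H * (charDegree (χ : H → ℂ) - (χ : H → ℂ) t) ^ 2 := by
    rw [h6]
    rw [h5] at h7 h8 ⊢
    rcases hδ with a | a <;> simp only [a, Int.cast_one, Int.cast_neg, one_mul] at h7 h8 ⊢
    · rw [h8] at hf
      rw [h7, h8]
      field_simp
      ring
    · rw [show (φ : H → ℂ) t = (χ : H → ℂ) t - 1 by linear_combination -h7]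
      have h10 : (charDegree (φ : H → ℂ) : ℂ) = charDegree (χ : H → ℂ) - 1 := by
        linear_combination -h8
      rw [h10] at hf ⊢
      field_simp
      ring
  rw [hs] at h9
  have h10 : (N : ℤ) * Nat.card (centralizer ({t} : Set H)) ^ 2 *
      (charDegree (χ : H → ℂ) * charDegree (φ : H → ℂ)) = Nat.card H *
      ((charDegree (χ : H → ℂ) : ℤ) - (charDegree (χ : H → ℂ) - 4 * m : ℤ)) ^ 2 := by
    exact_mod_cast h9
  rcases hN with rfl | ⟨rfl, -⟩
  · have := Nat.card_pos (α := H)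
    simp only [Nat.cast_zero, zero_mul, zero_eq_mul, pow_eq_zero_iff two_ne_zero] at h10
    omega
  · exact h10

theorem Br.exists_invol (h : Br p e T B) : ∃ t : H, orderOf t = 2 :=
  H31.exists_involution_of_not_solvable fun hs => by
    have := h.simple
    exact (Group.IsSolvable.commutator_lt_top_of_nontrivial H).ne h.perf

theorem three_aux [DecidableEq (IrrCharacter H)] (h : Br p 3 T B) (hφ : φ ∈ B.Y)
    {a b : IrrCharacter H} (ha : a ≠ H35.triv H) (hb : b ≠ H35.triv H) (hab : a ≠ b)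
    (hX : B.X = {H35.triv H, a, b}) : (∀ g, ¬ p ∣ orderOf g →
      B.ε * (φ : H → ℂ) g = 1 + B.δ a * (a : H → ℂ) g + B.δ b * (b : H → ℂ) g) ∧
      B.ε * (charDegree (φ : H → ℂ) : ℤ) =
        1 + B.δ a * charDegree (a : H → ℂ) + B.δ b * charDegree (b : H → ℂ) ∧
      B.δ a + B.δ b + -B.ε = -1 ∧
      IsSquare (charDegree (a : H → ℂ) * charDegree (b : H → ℂ) * charDegree (φ : H → ℂ)) := by
  have hs : ∀ {R : Type} [Ring R] (F : IrrCharacter H → R), ∑ χ ∈ B.X, B.δ χ * F χ =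
      F (H35.triv H) + B.δ a * F a + B.δ b * F b := fun F => by
    rw [hX, Finset.sum_insert (by simp [ha.symm, hb.symm]), Finset.sum_pair hab, B.δ_triv h.triv,
      Int.cast_one, one_mul, add_assoc]
  have h1 : ∀ g, ¬ p ∣ orderOf g →
      B.ε * (φ : H → ℂ) g = 1 + B.δ a * (a : H → ℂ) g + B.δ b * (b : H → ℂ) g := fun g hg => by
    rw [B.reg φ hφ g hg, hs fun χ => (χ : H → ℂ) g, triv_apply]
  have h2 := (B.degree_eq hφ).trans (hs fun χ => (charDegree (χ : H → ℂ) : ℤ))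
  rw [degree_triv, Int.cast_id, Int.cast_id] at h2
  obtain ⟨t, ht⟩ := h.exists_invol
  obtain ⟨l, l1, -, hl⟩ := h.invol ha ht
  obtain ⟨m, m1, -, hm⟩ := h.invol hb ht
  obtain ⟨n, n1, -, hn⟩ := h.invol (B.ne_triv_of_mem_Y h.triv hφ) ht
  obtain ⟨N, hN, h3⟩ := h.count hφ ht
  obtain rfl : N = 0 := hN.resolve_right fun c => absurd c.2 (by decide)
  have h4 := h1 t (h.reg_inv ht)
  rw [hs fun χ => (χ : H → ℂ) t ^ 2 / (χ : H → ℂ) 1, Nat.cast_zero, zero_mul, eq_comm, mul_eq_zero,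
    triv_apply, triv_apply, cast_degree_irr a, cast_degree_irr b, cast_degree_irr φ] at h3
  replace h3 := h3.resolve_left H5.natCard_ne_zero
  rw [hl, hm, hn] at h3 h4
  have := H34.col_signs (B.δ_sign a (hX ▸ by simp)) (B.δ_sign b (hX ▸ by simp))
    (c := -B.ε) (by have := B.ε_sign; omega) (x := charDegree (a : H → ℂ))
    (y := charDegree (b : H → ℂ)) (z := charDegree (φ : H → ℂ))
    (s := (charDegree (a : H → ℂ) - 4 * l : ℤ)) (u := (charDegree (b : H → ℂ) - 4 * m : ℤ))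
    (v := (charDegree (φ : H → ℂ) - 4 * n : ℤ)) (by exact_mod_cast degree_pos a)
    (by exact_mod_cast degree_pos b) (by exact_mod_cast degree_pos φ)
    (by have := congrArg (Int.cast : ℤ → ℚ) h2; push_cast at this ⊢; linear_combination -this)
    (Rat.cast_injective (α := ℂ) (by push_cast at h4 ⊢; linear_combination -h4))
    (Rat.cast_injective (α := ℂ) (by push_cast at h3 ⊢; linear_combination h3))
  have k : ∀ {x y : ℕ}, 0 < y → (((x : ℤ) - 4 * y : ℤ) : ℚ) ≠ x := fun hy e => by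
    have : ((_ : ℤ) : ℚ) = ((_ : ℕ) : ℤ) := e
    have := Int.cast_injective this
    omega
  obtain ⟨c1, c2⟩ := this.resolve_left fun c => k l1 c.1
  exact ⟨h1, by simpa using h2, c1, by exact_mod_cast c2 (k l1) (k m1) (k n1)⟩

theorem Br.e_three [DecidableEq (IrrCharacter H)] (h : Br p 3 T B) (hφ : φ ∈ B.Y) :
    ∃ χ₂ χ₃ : IrrCharacter H, χ₂ ≠ H35.triv H ∧ χ₃ ≠ H35.triv H ∧ χ₂ ≠ χ₃ ∧
      B.X = {H35.triv H, χ₂, χ₃} ∧ B.δ χ₃ = -1 ∧ B.ε = B.δ χ₂ ∧
      (∀ g, ¬ p ∣ orderOf g → B.ε * (φ : H → ℂ) g = 1 + B.δ χ₂ * (χ₂ : H → ℂ) g - (χ₃ : H → ℂ) g) ∧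
      B.ε * (charDegree (φ : H → ℂ) : ℤ) =
        1 + B.δ χ₂ * charDegree (χ₂ : H → ℂ) - charDegree (χ₃ : H → ℂ) ∧
      IsSquare (charDegree (χ₂ : H → ℂ) * charDegree (χ₃ : H → ℂ) * charDegree (φ : H → ℂ)) := by
  obtain ⟨a, b, hab, hX⟩ := Finset.card_eq_two.mp ((B.card_erase h.triv).trans (by rw [h.idx]))
  have ha : a ≠ H35.triv H := Finset.ne_of_mem_erase (s := B.X) (by simp [hX])
  have hb : b ≠ H35.triv H := Finset.ne_of_mem_erase (s := B.X) (by simp [hX])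
  have h2 : B.X = {H35.triv H, a, b} := by rw [← Finset.insert_erase h.triv, hX]
  have key : ∀ {a b}, a ≠ H35.triv H → b ≠ H35.triv H → a ≠ b → B.X = {H35.triv H, a, b} →
      B.δ b = -1 → ∃ χ₂ χ₃ : IrrCharacter H, χ₂ ≠ H35.triv H ∧ χ₃ ≠ H35.triv H ∧ χ₂ ≠ χ₃ ∧
      B.X = {H35.triv H, χ₂, χ₃} ∧ B.δ χ₃ = -1 ∧ B.ε = B.δ χ₂ ∧
      (∀ g, ¬ p ∣ orderOf g → B.ε * (φ : H → ℂ) g = 1 + B.δ χ₂ * (χ₂ : H → ℂ) g - (χ₃ : H → ℂ) g) ∧
      B.ε * (charDegree (φ : H → ℂ) : ℤ) =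
        1 + B.δ χ₂ * charDegree (χ₂ : H → ℂ) - charDegree (χ₃ : H → ℂ) ∧
      IsSquare (charDegree (χ₂ : H → ℂ) * charDegree (χ₃ : H → ℂ) * charDegree (φ : H → ℂ)) :=
    fun ha hb hab hX hδ => by
      obtain ⟨c1, c2, c3, c4⟩ := three_aux h hφ ha hb hab hX
      rw [hδ] at c1 c2 c3
      exact ⟨_, _, ha, hb, hab, hX, hδ, by omega, fun g hg => by rw [c1 g hg]; push_cast; ring,
        by rw [c2]; ring, c4⟩
  rcases B.δ_sign b (h2 ▸ by simp) with c | c
  · obtain ⟨-, c2, c3, -⟩ := three_aux h hφ ha hb hab h2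
    refine key hb ha hab.symm (by rw [h2, Finset.pair_comm]) ?_
    rcases B.δ_sign a (h2 ▸ by simp) with c' | c' <;> rcases B.ε_sign with c'' | c'' <;> omega
  · exact key ha hb hab h2 c

theorem Br.theta_deg (h : Br p e T B) (hΘ : IsCharacter H Θ) (hφ : φ ∈ B.Y) :
    ∃ (c : IrrCharacter H → ℕ) (m k : ℕ), (∀ χ : IrrCharacter H, classInner Θ χ = c χ) ∧
      charDegree Θ = ∑ χ ∈ B.X, c χ * charDegree (χ : H → ℂ) + m * charDegree (φ : H → ℂ) + p * k :=
  by
  classical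
  choose c hc using fun χ : IrrCharacter H =>
    H5.exists_nat_classInner hΘ (H5.isCharacter_of_isIrr χ.2)
  have h1 : charDegree Θ = ∑ χ, c χ * charDegree (χ : H → ℂ) := charDegree_eq (by
    rw [H5.classFunction_apply_eq_sum (H5.isClassFunction_of_isCharacter hΘ)]
    simp [hc, cast_degree_irr])
  obtain ⟨k, hk⟩ : p ∣ ∑ χ ∈ (B.X ∪ B.Y)ᶜ, c χ * charDegree (χ : H → ℂ) :=
    Finset.dvd_sum fun χ hχ => Dvd.dvd.mul_left (by_contra fun hd =>
      Finset.mem_compl.mp hχ (Finset.mem_union.mpr (B.mem_of_not_dvd h.cardV hd))) _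
  refine ⟨c, ∑ χ ∈ B.Y, c χ, k, hc, ?_⟩
  rw [h1, B.sum_univ, hk, Finset.sum_mul,
    Finset.sum_congr (s₁ := B.Y) rfl fun χ hχ => by rw [B.degree_Y hχ hφ]]

theorem Bd.inner (h : Bd p d e T B Θ Θ') (hχ : χ ∈ B.X) :
    ∃ m n : ℕ, classInner Θ χ = m ∧ classInner Θ' χ = n ∧ (m : ℤ) - n = B.δ χ := by
  obtain ⟨m, hm⟩ := H5.exists_nat_classInner h.chr (H5.isCharacter_of_isIrr χ.2)
  obtain ⟨n, hn⟩ := H5.exists_nat_classInner h.chr' (H5.isCharacter_of_isIrr χ.2)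
  have h1 := B.classInner_X (f := Θ - Θ') (fun g l => by
    simp only [Pi.sub_apply, H5.isClassFunction_of_isCharacter h.chr g l,
      H5.isClassFunction_of_isCharacter h.chr' g l]) (fun g hg => sub_eq_zero.mpr (h.reg g hg)) hχ
  rw [H5.classInner_sub_left, H5.classInner_sub_left, hm, hn, h.one, h.one', sub_zero,
    mul_one] at h1
  exact ⟨m, n, hm, hn, by exact_mod_cast h1⟩

theorem Bd.pos (h : Bd p d e T B Θ Θ') (hχ : χ ∈ B.X) (hδ : B.δ χ = 1) :
    classInner Θ χ ≠ 0 := by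
  obtain ⟨m, n, hm, -, h1⟩ := h.inner hχ
  rw [hm, Nat.cast_ne_zero]; omega

theorem Bd.neg (h : Bd p d e T B Θ Θ') (hχ : χ ∈ B.X) (hδ : B.δ χ = -1) :
    classInner Θ' χ ≠ 0 := by
  obtain ⟨m, n, -, hn, h1⟩ := h.inner hχ
  rw [hn, Nat.cast_ne_zero]; omega

theorem Bd.sum_le (h : Bd p d e T B Θ Θ') (s : ℤ) :
    ∑ χ ∈ B.X.filter (B.δ · = s), charDegree (χ : H → ℂ) ≤ d ^ 2 := by
  by_cases hs : s = 1
  · exact h.deg ▸ sum_degree_le h.chr _ fun χ hχ =>
      h.pos (Finset.mem_filter.mp hχ).1 ((Finset.mem_filter.mp hχ).2.trans hs)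
  · exact h.deg' ▸ sum_degree_le h.chr' _ fun χ hχ => h.neg (Finset.mem_filter.mp hχ).1
      ((B.δ_sign χ (Finset.mem_filter.mp hχ).1).resolve_left fun e =>
        hs ((Finset.mem_filter.mp hχ).2.symm.trans e))

end Cfsg.Agent.L16
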