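import Cfsg.Agent.L16.BaseB

set_option autoImplicit false
set_option linter.unusedSectionVars false

namespace Cfsg.Agent.L16

open Subgroup Cfsg Cfsg.Agent.H35
open scoped ComplexConjugate

variable {G : Type*} [Group G] [Finite G] {p d e : ℕ} [Fact p.Prime] {S : Setup G p}
  {ζ : IrrCharacter G}

theorem Cf.pow_cen (h : Cf p d e S ζ) {z : G} (hz : z ∈ center G) : z ^ d = 1 :=
  h.deg ▸ pow_degree_of_mem_center h.perf ζ.2 h.faith hz

theorem Cf.cop (h : Cf p d e S ζ) : p.Coprime d := by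
  have h1 := h.sum
  have h2 := h.two
  have h3 := h.lt
  exact (Nat.Prime.coprime_iff_not_dvd Fact.out).mpr fun hd => by
    have := Nat.le_of_dvd (by omega) hd; omega

theorem Cf.reg_cen (h : Cf p d e S ζ) {z : G} (hz : z ∈ center G) : ¬ p ∣ orderOf z := fun hd =>
  (Nat.Prime.coprime_iff_not_dvd Fact.out).mp h.cop
    (hd.trans (orderOf_dvd_of_pow_eq_one (h.pow_cen hz)))

theorem Cf.mem_V (h : Cf p d e S ζ) {z : G} (hz : z ∈ center G) : ∃ v : S.V, z = (v : S.K) :=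
  S.exists_eq_of_regular (mem_center_iff.mp hz _) (h.reg_cen hz)

theorem Cf.x_not (h : Cf p d e S ζ) : S.x ∉ center G := fun hx =>
  h.reg_cen hx S.hx.symm.dvd

theorem Cf.normal (h : Cf p d e S ζ) (N : Subgroup G) [N.Normal] : N = ⊤ ∨ N ≤ center G := by
  by_cases hp : p ∣ Nat.card N
  · exact Or.inl (eq_top_iff.mpr (h.gen ▸ normalClosure_le_normal
      (Set.singleton_subset_iff.mpr (S.x_mem_of_normal N hp))))
  refine Or.inr fun g hg => ?_
  have h1 := h.sum
  have h2 := h.two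
  obtain ⟨v, rfl⟩ := S.exists_eq_of_regular (S.commute_of_normal hp (S.le_normalizer_of_normal
    (H5.isCharacter_of_isIrr ζ.2) h.faith (by rw [h.deg]; omega) N inferInstance hp) hg).symm
    fun hd => hp (hd.trans (N.orderOf_dvd_natCard hg))
  exact h.cen v

theorem Cf.simple (h : Cf p d e S ζ) : IsSimpleGroup (G ⧸ center G) := by
  have : Nontrivial (G ⧸ center G) := ⟨⟨(S.x : G), 1, fun e => h.x_not ((QuotientGroup.eq_one_iff _).mp e)⟩⟩
  refine ⟨fun N _ => ?_⟩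
  rcases h.normal (N.comap (QuotientGroup.mk' (center G))) with a | a
  · exact Or.inr (comap_injective (QuotientGroup.mk'_surjective _) (a.trans (comap_top _).symm))
  · refine Or.inl (eq_bot_iff.mpr fun c hc => ?_)
    obtain ⟨g, rfl⟩ := QuotientGroup.mk_surjective c
    exact (QuotientGroup.eq_one_iff _).mpr (a hc)

theorem Cf.reg_lift (h : Cf p d e S ζ) {g : G} (hg : ¬ p ∣ orderOf (g : G ⧸ center G)) :
    ¬ p ∣ orderOf g := fun hd => by
  have h1 : (g ^ orderOf (g : G ⧸ center G)) ^ d = 1 := h.pow_cen ((QuotientGroup.eq_one_iff _).mp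
    (by rw [QuotientGroup.mk_pow, pow_orderOf_eq_one]))
  rw [← pow_mul] at h1
  exact hg (h.cop.dvd_of_dvd_mul_right (hd.trans (orderOf_dvd_of_pow_eq_one h1)))

theorem Cf.bar (h : Cf p d e S ζ) : ∃ T : Setup (G ⧸ center G) p,
    Nat.card T.V = 1 ∧ T.V.index = e := by
  have hp : p.Prime := Fact.out
  have hxp : S.x ^ p = 1 := orderOf_dvd_iff_pow_eq_one.mp S.hx.dvd
  have hx : orderOf (S.x : G ⧸ center G) = p := orderOf_eq_prime
    (by rw [← QuotientGroup.mk_pow, hxp, QuotientGroup.mk_one])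
    fun e => h.x_not ((QuotientGroup.eq_one_iff _).mp e)
  have hc := (center G).card_eq_card_quotient_mul_card_subgroup
  obtain ⟨T, hT⟩ := exists_setup hx fun a => S.hsq (hc ▸ a.mul_right _)
  have h1 : Nat.card T.V = 1 := T.card_V_eq_one (le_antisymm (fun c hc => by
    obtain ⟨g, rfl⟩ := QuotientGroup.mk_surjective c
    rw [mem_centralizer_singleton_iff, hT, ← QuotientGroup.mk_mul, ← QuotientGroup.mk_mul,
      QuotientGroup.eq] at hc
    have e1 : g⁻¹ * S.x * g = S.x * ((g * S.x)⁻¹ * (S.x * g)) := by group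
    have e2 : ((g * S.x)⁻¹ * (S.x * g)) ^ p = 1 := by
      have e3 := congrArg (· ^ p) e1
      simp only [(show Commute S.x _ from mem_center_iff.mp hc _).mul_pow] at e3
      rw [show g⁻¹ * S.x * g = g⁻¹ * S.x * g⁻¹⁻¹ by rw [inv_inv], conj_pow, hxp] at e3
      simpa using e3.symm
    have e4 : (g * S.x)⁻¹ * (S.x * g) = 1 := by
      rw [← orderOf_eq_one_iff]
      exact ((Nat.dvd_prime hp).mp (orderOf_dvd_of_pow_eq_one e2)).resolve_right fun a =>
        h.reg_cen hc a.symm.dvd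
    obtain ⟨i, v, rfl⟩ := S.exists_decomp_of_commute (c := g) (inv_mul_eq_one.mp e4).symm
    rw [QuotientGroup.mk_mul, (QuotientGroup.eq_one_iff _).mpr (h.cen v), mul_one, hT, Setup.xp,
      QuotientGroup.mk_pow]
    exact npow_mem_zpowers _ _)
    (zpowers_le.mpr (mem_centralizer_singleton_iff.mpr rfl)))
  refine ⟨T, h1, ?_⟩
  obtain ⟨P, hP⟩ := exists_sylow_eq_zpowers S.hx S.hsq
  have h8 := H85.card_sylow_eq_mul (QuotientGroup.mk' (center G)) (QuotientGroup.mk'_surjective _) P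
  rw [QuotientGroup.ker_mk', H85.card_sylow_of_le P le_sup_left, relIndex_eq_one.mpr
    (sup_le P.1.le_normalizer (center_le_normalizer _) : _ ≤ normalizer (P : Set G)), mul_one] at h8
  have h9 : Nat.card S.V = Nat.card (center G) := Nat.card_congr (Equiv.ofBijective
    (fun v => ⟨_, h.cen v⟩) ⟨fun v w e => Subtype.ext (Subtype.ext (Subtype.mk.inj e)), fun z => by
      obtain ⟨v, hv⟩ := h.mem_V z.2
      exact ⟨v, Subtype.ext hv.symm⟩⟩)
  rw [S.card_eq, T.card_eq, h1, h8, h9, h.idx] at hc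
  have h10 : 0 < p * Nat.card (center G) * Nat.card (Sylow p (G ⧸ center G)) :=
    Nat.mul_pos (Nat.mul_pos hp.pos Nat.card_pos) Nat.card_pos
  exact Nat.eq_of_mul_eq_mul_left h10 (by linear_combination hc.symm)

/-- the exceptional family of `ζ` -/
theorem Cf.fam (h : Cf p d e S ζ) : ∃ (Y : Finset (IrrCharacter G)) (η : G → ℂ), ζ ∈ Y ∧
    Y.card * e = p - 1 ∧ (∀ φ ∈ Y, ∀ g, ¬ p ∣ orderOf g → (φ : G → ℂ) g = (ζ : G → ℂ) g) ∧
    (∀ z ∈ center G, η z * conj (η z) = 1 ∧ ∀ φ ∈ Y, (φ : G → ℂ) z = d * η z) ∧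
    ∀ n : ℕ, n.Coprime (Nat.card G) → n ≡ 1 [MOD p * d] → ∀ g, ¬ p ∣ orderOf g →
      (ζ : G → ℂ) (g ^ n) = (ζ : G → ℂ) g := by
  classical
  have hp : p.Prime := Fact.out
  have h1 := h.sum
  have h2 := h.two
  have h3 := h.lt
  obtain ⟨θ, B, hY, ⟨-, a⟩ | ⟨a1, a2, a3, -, a5⟩⟩ := S.below_pred (χ := ζ) (by rw [h.deg]; omega)
    fun e => h.x_not (h.faith _ e ▸ one_mem _)
  · rw [h.deg, h.idx] at a
    have := (Nat.dvd_prime hp).mp (⟨charDegree (θ : S.V → ℂ) + 1, by rw [mul_add]; omega⟩ : e ∣ p)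
    omega
  have hA := Setup.card_autH_of_top (H5.isClassFunction_of_isIrr θ.2) a2
  have hr : ∀ φ ∈ B.Y, ∀ g, ¬ p ∣ orderOf g → (φ : G → ℂ) g = (ζ : G → ℂ) g :=
    fun φ hφ g hg => B.eq_on_regular hφ hY hg
  refine ⟨B.Y, fun z => (ζ : G → ℂ) z / d, hY, by rw [← h.idx, ← hA, B.cardY], hr,
    fun z hz => ⟨?_, fun φ hφ => ?_⟩, fun n hn hn' g hg => ?_⟩
  · have := H5.norm_apply_of_mem_center ζ.2 hz
    rw [cast_degree_irr, h.deg, Complex.norm_natCast] at this
    rw [Complex.mul_conj, Complex.normSq_eq_norm_sq, norm_div, this, Complex.norm_natCast,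
      div_self (Nat.cast_ne_zero.mpr (by omega))]
    simp
  · rw [hr φ hφ z (h.reg_cen hz), mul_div_cancel₀ _ (Nat.cast_ne_zero.mpr (by omega))]
  let ξ : IrrCharacter G := ⟨_, H7.isIrrCharacter_comp_pow hn ζ.2⟩
  obtain ⟨i, hi, h0⟩ := B.exists_psi_ne_zero (Or.inr hY)
  have e1 : S.psi θ ξ i = S.psi θ ζ i := by
    rw [S.psi_eq (H5.isCharacter_of_isIrr θ.2), S.psi_eq (H5.isCharacter_of_isIrr θ.2)]
    refine congrArg _ (Finset.sum_congr rfl fun v _ => congrArg (· * _) ?_)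
    refine congrArg (ζ : G → ℂ) ((pow_eq_pow_iff_modEq.mpr (hn'.of_dvd
      (orderOf_dvd_of_pow_eq_one ?_))).trans (pow_one _))
    rw [(S.commute_xp i v).mul_pow, pow_mul, S.xp_pow, mul_comm p, pow_mul, h.pow_cen (h.cen v)]
    simp [S.xp_zero]
  rcases B.mem_of_psi_ne_zero hi (e1 ▸ h0) with hX | hX
  · have e2 := B.degX ξ hX d 1 (by simp [ξ, cast_degree_irr, h.deg])
      (by rw [cast_degree_irr, a3])
    rw [a2, index_top] at e2
    have e3 : (p : ℤ) ∣ d - B.δ ξ := (ZMod.intCast_zmod_eq_zero_iff_dvd _ p).mp (by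
      push_cast at e2 ⊢; linear_combination e2)
    rcases B.δ_sign ξ hX with a | a <;> rw [a] at e3 <;>
      have := Int.le_of_dvd (by omega) e3 <;> omega
  · exact hr ξ hX g hg

theorem Cf.int (h : Cf p d e S ζ) {g : G} (hg : (orderOf g).Coprime (p * d)) :
    ∃ z : ℤ, (ζ : G → ℂ) g = z := by
  have hp : p.Prime := Fact.out
  obtain ⟨-, -, -, -, -, -, h1⟩ := h.fam
  refine H7.exists_int_character_of_pow (H5.isCharacter_of_isIrr ζ.2) fun m hm => ?_
  obtain ⟨k, k1, k2⟩ := Nat.chineseRemainder hg m 1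
  have h2 : orderOf g * (p * d) ∣ Nat.card G := hg.mul_dvd_of_dvd_of_dvd (orderOf_dvd_natCard g)
    (h.cop.mul_dvd_of_dvd_of_dvd (S.hx ▸ orderOf_dvd_natCard S.x)
      (H5.degree_dvd_card ζ.2 (by rw [cast_degree_irr, h.deg])))
  obtain ⟨n, n1, n2⟩ := exists_coprime_modEq Nat.card_pos.ne' h2 (a := k) (Nat.Coprime.mul_right
    (k1.gcd_eq.trans hm) (k2.gcd_eq.trans (Nat.gcd_one_left _)))
  rw [← h1 n n1 ((n2.of_mul_left _).trans k2) g fun a => hp.ne_one
    (Nat.eq_one_of_dvd_coprimes hg a (dvd_mul_right _ _)),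
    pow_eq_pow_iff_modEq.mpr ((n2.of_mul_right _).trans k1)]

theorem cop_mul {r : ℕ} (hr : r.Prime) (hrp : r ≠ p) (hd : ¬ r ∣ d) :
    r.Coprime (p * d) := Nat.Coprime.mul_right ((Nat.coprime_primes hr Fact.out).mpr hrp)
      ((Nat.Prime.coprime_iff_not_dvd hr).mpr hd)

theorem Cf.fact (h : Cf p d e S ζ) {r : ℕ} (hr : r.Prime) (hrp : r ≠ p) (hd : ¬ r ∣ d) :
    (Nat.card G).factorization r ≤ sb d r := by
  have := Fact.mk hr
  obtain ⟨R⟩ : Nonempty (Sylow r G) := inferInstance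
  have h1 := schur (H5.isCharacter_restrict (H5.isCharacter_of_isIrr ζ.2) (R : Subgroup G))
    (fun g hg => Subtype.ext (h.faith g hg)) (fun g => h.int (by
      obtain ⟨k, hk⟩ := IsPGroup.iff_orderOf.mp R.isPGroup' g
      rw [orderOf_coe, hk]
      exact (cop_mul hr hrp hd).pow_left k)) hr
  rwa [R.card_eq_multiplicity, hr.factorization_pow, Finsupp.single_eq_same,
    show charDegree (fun g : (R : Subgroup G) => (ζ : G → ℂ) g) = d from h.deg] at h1

theorem class_bound {H : Type*} [Group H] [Fintype H] {F : H → ℂ} (hF : IsClassFunction H F)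
    (h0 : ∀ g, 0 ≤ (F g).re) (y : H) : (F y).re ≤
      Nat.card (centralizer ({y} : Set H)) * (classInner F fun _ => 1).re := by
  classical
  have h1 := congrArg Complex.re (H5.sum_filter_isConj hF y)
  have h2 := Finset.sum_le_sum_of_subset_of_nonneg (Finset.filter_subset (IsConj y) Finset.univ)
    fun g _ _ => h0 g
  rw [Complex.re_sum] at h1
  rw [h1, ← Complex.re_sum, ← mul_inv_cancel_left₀ (H5.natCard_ne_zero (G := H)) (∑ g, F g),
    ← H5.classInner_one_right, ← (centralizer ({y} : Set H)).index_mul_card, Nat.cast_mul,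
    mul_assoc] at h2
  simp only [Complex.mul_re, Complex.natCast_re, Complex.natCast_im, zero_mul, sub_zero] at h2
  exact le_of_mul_le_mul_left h2 (Nat.cast_pos.mpr (Nat.pos_of_ne_zero index_ne_zero_of_finite))

theorem Cf.bd (h : Cf p d e S ζ) [Fintype (G ⧸ center G)] :
    ∃ (T : Setup (G ⧸ center G) p) (B : T.Blk fun _ => 1) (Θ Θ' : G ⧸ center G → ℂ),
      Bd p d e T B Θ Θ' := by
  classical
  have := Fintype.ofFinite G
  have hp : p.Prime := Fact.out
  have h1 := h.sum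
  have h2 := h.two
  have h3 := h.lt
  obtain ⟨T, hV, he⟩ := h.bar
  obtain ⟨B, hB⟩ := T.exists_principal
  obtain ⟨Y, η, hY, hc, hr, hz, -⟩ := h.fam
  have hs := QuotientGroup.mk'_surjective (center G)
  have hperf : commutator (G ⧸ center G) = ⊤ :=
    have : Group.IsPerfect G := ⟨h.perf⟩
    (Group.IsPerfect.ofSurjective hs).1
  have hbr : Br p e T B := ⟨h.simple, hperf, hV, he, hB, h2, by omega⟩
  have h4 : ∀ φ ∈ Y, (φ : G → ℂ) 1 = d := fun φ hφ => by
    rw [hr φ hφ 1 (by simpa using hp.ne_one), cast_degree_irr, h.deg]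
  have key : ∀ φ ∈ Y, ∀ ψ ∈ Y, ∃ F : G ⧸ center G → ℂ, IsCharacter _ F ∧
      (∀ g : G, F g = (φ : G → ℂ) g * conj ((ψ : G → ℂ) g)) ∧
      classInner F (fun _ => 1) = if φ = ψ then 1 else 0 := fun φ hφ ψ hψ => by
    obtain ⟨F, a, b⟩ := H5.exists_isCharacter_quotient (center G) (H5.isCharacter_mul
      (H5.isCharacter_of_isIrr φ.2) (H5.isCharacter_conj (H5.isCharacter_of_isIrr ψ.2)))
      fun z a => by
        simp only [Pi.mul_apply, (hz z a).2 φ hφ, (hz z a).2 ψ hψ, h4 φ hφ, h4 ψ hψ, map_mul]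
        linear_combination (d * conj (d : ℂ)) * (hz z a).1
    refine ⟨F, a, fun g => (congrFun b g).symm, ?_⟩
    rw [← H5.classInner_comp_surjective _ hs, ← H5.classInner_irrCharacter]
    simp only [classInner, QuotientGroup.mk'_apply, ← congrFun b _, Pi.mul_apply, map_one, mul_one]
  have h5 : 2 ≤ Y.card := by
    by_contra a
    have := Nat.mul_le_mul_right e (show Y.card ≤ 1 by omega)
    omega
  obtain ⟨ζ', hY', hne⟩ := Finset.exists_mem_ne h5 ζ
  choose! F hF using key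
  have hd : ∀ φ ∈ Y, charDegree (F ζ φ) = d ^ 2 := fun φ hφ => charDegree_eq (by
    rw [← QuotientGroup.mk_one, (hF ζ hY φ hφ).2.1, h4 ζ hY, h4 φ hφ]; simp [sq])
  refine ⟨T, B, F ζ ζ, F ζ ζ', hbr, (hF ζ hY ζ hY).1, (hF ζ hY ζ' hY').1, hd ζ hY, hd ζ' hY',
    fun c hc => ?_, by rw [(hF ζ hY ζ hY).2.2, if_pos rfl],
    by rw [(hF ζ hY ζ' hY').2.2, if_neg hne.symm], fun r a b c => ?_, fun r a b c y hy => ?_⟩
  · obtain ⟨g, rfl⟩ := QuotientGroup.mk_surjective c
    rw [(hF ζ hY ζ hY).2.1, (hF ζ hY ζ' hY').2.1, hr ζ' hY' g (h.reg_lift hc)]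
  · exact ((Nat.factorization_le_iff_dvd Nat.card_pos.ne' Nat.card_pos.ne').mpr
      (card_quotient_dvd_card _) r).trans (h.fact a b c)
  obtain ⟨g, rfl⟩ := QuotientGroup.mk_surjective y
  obtain ⟨n, n1, n2⟩ := Nat.chineseRemainder ((Nat.Prime.coprime_iff_not_dvd a).mpr c) 1 0
  obtain ⟨m, rfl⟩ := Nat.modEq_zero_iff_dvd.mp n2
  have e1 : ((g ^ (d * m) : G) : G ⧸ center G) = g := by
    rw [QuotientGroup.mk_pow, pow_eq_pow_iff_modEq.mpr (hy ▸ n1), pow_one]
  have e2 : g ^ (d * m) ∉ center G := fun c => a.ne_one (by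
    rw [← hy, ← e1, (QuotientGroup.eq_one_iff _).mpr c, orderOf_one])
  have := Fact.mk a
  have e3 : orderOf (g ^ (d * m)) = r := orderOf_eq_prime (by
    rw [← pow_mul, mul_comm, ← mul_assoc, pow_mul, pow_mul, h.pow_cen ((QuotientGroup.eq_one_iff _).mp
      (by rw [QuotientGroup.mk_pow, ← hy, pow_orderOf_eq_one])), one_pow])
    fun c => e2 (c ▸ one_mem _)
  rw [← e1] at hy ⊢
  generalize g ^ (d * m) = y at *
  have e4 : ¬ p ∣ orderOf y := fun c => b ((Nat.prime_dvd_prime_iff_eq hp a).mp (e3 ▸ c)).symm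
  obtain ⟨z, hz'⟩ := h.int (g := y) (e3 ▸ cop_mul a b c)
  refine ⟨z, h.deg ▸ int_dvd (H5.isCharacter_of_isIrr ζ.2) a e3 hz', ?_,
    by rw [(hF ζ hY ζ hY).2.1, hz']; simp [sq], ?_⟩
  · have := (H5.norm_apply_le_degree (H5.isCharacter_of_isIrr ζ.2) y).lt_of_ne fun c =>
      e2 (mem_center_of_norm (H5.isCharacter_of_isIrr ζ.2) h.faith c)
    rw [hz', h4 ζ hY, Complex.norm_intCast, Complex.norm_natCast] at this
    exact_mod_cast this
  have e5 : ∀ g : G, (∑ φ ∈ Y, ∑ ψ ∈ Y, F φ ψ) g =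
      (∑ φ ∈ Y, (φ : G → ℂ) g) * conj (∑ φ ∈ Y, (φ : G → ℂ) g) := fun g => by
    rw [map_sum, Finset.sum_mul_sum, Finset.sum_apply]
    refine Finset.sum_congr rfl fun φ hφ => ?_
    rw [Finset.sum_apply]
    exact Finset.sum_congr rfl fun ψ hψ => (hF φ hφ ψ hψ).2.1 g
  have e6 := class_bound (H5.isClassFunction_of_isCharacter (H5.isCharacter_sum Y _ fun φ hφ =>
    H5.isCharacter_sum Y _ fun ψ hψ => (hF φ hφ ψ hψ).1)) (fun c => by
      obtain ⟨g, rfl⟩ := QuotientGroup.mk_surjective c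
      rw [e5, Complex.mul_conj, Complex.ofReal_re]; exact Complex.normSq_nonneg _) y
  rw [e5, Finset.sum_congr rfl fun φ hφ => (hr φ hφ y e4).trans hz', H5.classInner_sum_left,
    Finset.sum_congr rfl (f := fun φ => classInner (∑ ψ ∈ Y, F φ ψ) fun _ => 1) fun φ hφ => by
      rw [H5.classInner_sum_left, Finset.sum_congr rfl fun ψ hψ =>
        (hF φ hφ ψ hψ).2.2, Finset.sum_ite_eq, if_pos hφ]] at e6
  rw [← hc, Nat.mul_div_cancel _ (by omega : 0 < e)]
  have e7 : (0 : ℝ) < Y.card := Nat.cast_pos.mpr (by omega)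
  simp only [Finset.sum_const, nsmul_eq_mul, mul_one, Complex.natCast_re, map_mul, map_natCast,
    map_intCast] at e6
  norm_cast at e6
  refine le_of_mul_le_mul_left (le_of_eq_of_le ?_ (e6.trans_eq ?_)) (by omega : (0 : ℤ) < Y.card)
  · ring
  · push_cast; ring

end Cfsg.Agent.L16
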