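import Cfsg.Agent.L16.C5

/-! Degree 16, `p = 19` is impossible (notes/L16.md). -/

set_option autoImplicit false
set_option linter.unusedSectionVars false

namespace Cfsg.Agent.L16

open Subgroup Cfsg Cfsg.Agent.H35

namespace C19

theorem tau_int {G : Type*} [Group G] [Finite G] {r : ℕ} (hr : r.Prime) {τ : G → ℂ}
    (hτ : IsCharacter G τ) {v : G} {z : ℤ} (hz : (z : ℂ) = r * τ v) : (r : ℤ) ∣ z := by
  refine H5.int_dvd_of_isIntegral_div (Int.natCast_ne_zero.mpr hr.ne_zero) ?_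
  rw [hz, Int.cast_natCast, mul_div_cancel_left₀ _ (Nat.cast_ne_zero.mpr hr.ne_zero)]
  exact H5.isIntegral_apply hτ v

theorem sq_plus : ∀ a : ℕ, a < 14 → ∀ b : ℕ, b < 13 →
    IsSquare ((19 * a + 1) * (19 * b + 18) * (19 * a + 2 - (19 * b + 18))) →
      a ≤ b ∨ (a = 4 ∧ b = 2) ∨ (a = 8 ∧ b = 0) := by
  decide +kernel

theorem sq_minus : ∀ a : ℕ, a < 12 → ∀ b : ℕ, b < 12 →
    IsSquare ((19 * a + 18) * (19 * b + 18) * (19 * a + 19 * b + 35)) →
      12 ≤ a + b ∨ a = 1 ∨ b = 1 ∨ a = 5 := by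
  decide +kernel

variable {H : Type*} [Group H] [Fintype H] {p e : ℕ} [Fact p.Prime] {T : Setup H p}
  {B : T.Blk fun _ => 1} [DecidableEq (IrrCharacter H)] {χ₂ χ₃ : IrrCharacter H}

theorem sums (h : Br p e T B) (h1 : χ₂ ≠ triv H) (h2 : χ₃ ≠ triv H) (h3 : χ₂ ≠ χ₃)
    (hX : B.X = {triv H, χ₂, χ₃}) (h4 : B.δ χ₃ = -1) {n : ℕ}
    (hn : ∀ s, ∑ χ ∈ B.X.filter (B.δ · = s), charDegree (χ : H → ℂ) ≤ n) :
    (B.δ χ₂ = 1 ∧ 1 + charDegree (χ₂ : H → ℂ) ≤ n ∧ charDegree (χ₃ : H → ℂ) ≤ n) ∨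
      B.δ χ₂ = -1 ∧ charDegree (χ₂ : H → ℂ) + charDegree (χ₃ : H → ℂ) ≤ n := by
  have h5 := B.δ_triv h.triv
  have h6 := hn 1
  have h7 := hn (-1)
  rcases B.δ_sign χ₂ (by simp [hX]) with e | e
  · rw [show B.X.filter (B.δ · = 1) = {triv H, χ₂} by rw [hX]; ext; simp; grind,
      Finset.sum_pair h1.symm, degree_triv] at h6
    rw [show B.X.filter (B.δ · = -1) = {χ₃} by rw [hX]; ext; simp; grind,
      Finset.sum_singleton] at h7
    exact Or.inl ⟨e, h6, h7⟩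
  · rw [show B.X.filter (B.δ · = -1) = {χ₂, χ₃} by rw [hX]; ext; simp; grind,
      Finset.sum_pair h3] at h7
    exact Or.inr ⟨e, h7⟩

end C19

open C5 C19 in
theorem c19 {H : Type*} [Group H] [Fintype H] [Fact (Nat.Prime 19)] {T : Setup H 19}
    {B : T.Blk fun _ => 1} {Θ Θ' : H → ℂ} (h : Bd 19 16 3 T B Θ Θ') : False := by
  classical
  obtain ⟨φ, hφ⟩ := B.nonempty_Y
  obtain ⟨χ₂, χ₃, h1, h2, h3, hX, h4, h5, -, h6, h7⟩ := h.toBr.e_three hφ
  have m2 : χ₂ ∈ B.X := by simp [hX]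
  have d2 := B.degX' m2
  have d3 := B.degX' (show χ₃ ∈ B.X by simp [hX])
  have d4 := degree_pos φ
  have hN : Nat.card H ≠ 0 := Nat.card_pos.ne'
  rw [h4, Int.ModEq] at d3
  rw [Int.ModEq] at d2
  obtain ⟨b, hb⟩ : ∃ b, charDegree (χ₃ : H → ℂ) = 19 * b + 18 :=
    ⟨charDegree (χ₃ : H → ℂ) / 19, by omega⟩
  have hbig : ∀ (χ : IrrCharacter H) (r : ℕ), r.Prime → r = 37 ∨ r = 113 →
      charDegree (χ : H → ℂ) ≠ r := fun χ r hr e e' => by
    have a1 := h.fact r hr (by omega) fun a => by have := Nat.le_of_dvd (by decide) a; omega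
    have := le_fact hr hN (k := 1)
      ((pow_one r).symm ▸ H5.degree_dvd_card χ.2 (by rw [cast_degree_irr, e']))
    rw [sb_zero (by omega)] at a1
    omega
  rcases sums h.toBr h1 h2 h3 hX h4 h.sum_le with ⟨e, e1, e2⟩ | ⟨e, e1⟩ <;>
    rw [e] at h5 h6 d2 <;> rw [h5] at h6
  swap
  · obtain ⟨a, ha⟩ : ∃ a, charDegree (χ₂ : H → ℂ) = 19 * a + 18 :=
      ⟨charDegree (χ₂ : H → ℂ) / 19, by omega⟩
    have := sq_minus a (by omega) b (by omega) (by
      rwa [ha, hb, show charDegree (φ : H → ℂ) = 19 * a + 19 * b + 35 by omega] at h7)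
    have := hbig χ₂ 37 (by norm_num) (Or.inl rfl)
    have := hbig χ₃ 37 (by norm_num) (Or.inl rfl)
    have := hbig χ₂ 113 (by norm_num) (Or.inr rfl)
    omega
  obtain ⟨a, ha⟩ : ∃ a, charDegree (χ₂ : H → ℂ) = 19 * a + 1 :=
    ⟨charDegree (χ₂ : H → ℂ) / 19, by omega⟩
  rcases sq_plus a (by omega) b (by omega) (by
    rwa [ha, hb, show charDegree (φ : H → ℂ) = 19 * a + 2 - (19 * b + 18) by omega] at h7) with
    e3 | ⟨rfl, rfl⟩ | ⟨rfl, rfl⟩
  · omega
  swap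
  · obtain ⟨c, m, k, a1, a2⟩ := h.toBr.theta_deg h.chr hφ
    have a3 : c (triv H) = 1 := Nat.cast_eq_one.mp ((a1 _).symm.trans h.one)
    have a4 : c χ₂ ≠ 0 := fun e' => h.pos m2 e (by rw [a1, e', Nat.cast_zero])
    rw [hX, Finset.sum_insert (by simp [h1.symm, h2.symm]), Finset.sum_pair h3, a3, degree_triv,
      h.deg, ha, hb, show charDegree (φ : H → ℂ) = 136 by omega] at a2
    omega
  have hf : charDegree (φ : H → ℂ) = 22 := by omega
  have : Fact (Nat.Prime 11) := ⟨by norm_num⟩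
  have hφ1 := B.ne_triv_of_mem_Y h.triv hφ
  obtain ⟨y, hy⟩ := exists_prime_orderOf_dvd_card' (G := H) 11
    ((by decide : 11 ∣ 22).trans (H5.degree_dvd_card φ.2 (by rw [cast_degree_irr, hf])))
  obtain ⟨S, rfl⟩ := exists_setup hy fun e3 => absurd ((le_fact this.out hN e3).trans
    (h.fact 11 this.out (by decide) (by decide))) (by decide)
  obtain ⟨τ, t1, t2⟩ := tau_of_dvd S (χ := φ) (by rw [hf]; decide)
  have t3 : τ 1 = (2 : ℕ) := by
    have := t2 1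
    rw [OneMemClass.coe_one, OneMemClass.coe_one, cast_degree_irr, hf] at this
    push_cast at this ⊢
    linear_combination -this / 11
  have t4 : ∀ v : S.V, ∃ z : ℤ, (φ : H → ℂ) (v : S.K) = z ∧ (11 : ℤ) ∣ z := fun v => by
    obtain ⟨z, hz⟩ := h.toBr.intY hφ (h.toBr.not_dvd this.out (by decide) hy (S.commute_x v))
    exact ⟨z, hz, tau_int this.out t1 (hz.symm.trans (t2 v))⟩
  have t5 := fun (r : ℕ) (hr : r.Prime) => schur t1 (fun v hv => Subtype.ext (Subtype.ext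
    (h.toBr.faith hφ1 _ ((t2 v).trans (hv ▸ (t2 1).symm))))) (fun v => by
      obtain ⟨z, z1, w, rfl⟩ := t4 v
      refine ⟨w, mul_left_cancel₀ (Nat.cast_ne_zero.mpr this.out.ne_zero) ?_⟩
      rw [← t2, z1]
      push_cast
      rfl) hr
  rw [charDegree_eq t3] at t5
  have hV : Nat.card S.V ≠ 0 := Nat.card_pos.ne'
  have t6 := Nat.eq_prime_pow_of_unique_prime_dvd (p := 3) hV fun {r} hr e3 => by
    by_contra a1
    by_cases a2 : r = 2
    · subst a2
      obtain ⟨v, hv⟩ := exists_prime_orderOf_dvd_card' 2 e3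
      obtain ⟨m, m1, m3, m4⟩ := h.toBr.invol hφ1 (t := (v : S.K)) (by rw [orderOf_coe, orderOf_coe, hv])
      obtain ⟨z, z1, z2⟩ := t4 v
      have : z = _ := Int.cast_injective (z1.symm.trans m4)
      omega
    have a3 := t5 r hr
    have := le_fact hr hV (k := 1) ((pow_one r).symm ▸ e3)
    have := hr.two_le
    rw [sb_zero (by omega)] at a3
    omega
  have t7 : Nat.card S.V ≤ 3 ^ 1 := t6 ▸ Nat.pow_le_pow_right (by decide)
    ((le_fact Nat.prime_three hV t6.symm.dvd).trans (t5 3 Nat.prime_three))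
  obtain ⟨z, z1, z2, -, z3⟩ := h.cent 11 this.out (by decide) (by decide) _ hy
  rw [S.card_centralizer] at z3
  rw [abs_lt] at z2
  rcases (by omega : z = 5 ∨ z = -6) with rfl | rfl <;> omega

end Cfsg.Agent.L16
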