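import Cfsg.Agent.L16.BaseB
import Cfsg.Agent.S0497
import Cfsg.Agent.H24.MaxFix2

/-! Degree 3, `p = 5` (notes/L16.md). -/

set_option autoImplicit false
set_option linter.unusedSectionVars false

namespace Cfsg.Agent.L16

open Subgroup Cfsg Cfsg.Agent.H35

namespace C5

theorem exists_invol {H : Type*} [Group H] [Finite H] (h : 2 ∣ Nat.card H) :
    ∃ (t : H) (i : ℕ), orderOf t = 2 ∧ Odd i ∧
      Nat.card H = Nat.card (centralizer ({t} : Set H)) * i := by
  obtain ⟨P⟩ : Nonempty (Sylow 2 H) := inferInstance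
  obtain ⟨t, h1, h2, h3, h4⟩ := H24.exists_central_invol P.isPGroup' (P.ne_bot_of_dvd_card h)
  refine ⟨t, _, orderOf_eq_prime ((sq t).trans h3) h2, ?_, (card_mul_index _).symm⟩
  exact Nat.not_even_iff_odd.mp fun e => P.not_dvd_index (e.two_dvd.trans (index_dvd_of_le
    fun g hg => mem_centralizer_singleton_iff.mpr (h4 g hg).symm))

theorem sb_zero {d r : ℕ} (h : d + 1 < r) : sb d r = 0 :=
  Finset.sum_eq_zero fun i _ => Nat.div_eq_of_lt (lt_of_lt_of_le (by omega)
    (Nat.le_mul_of_pos_right _ (pow_pos (by omega) i)))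

theorem le_fact {n r k : ℕ} (hr : r.Prime) (hn : n ≠ 0) (h : r ^ k ∣ n) : k ≤ n.factorization r :=
  (hr.pow_dvd_iff_le_factorization hn).mp h

theorem deg_ne_one {H : Type*} [Group H] [Finite H] (hG : commutator H = ⊤) {χ : IrrCharacter H}
    (h : χ ≠ triv H) : 2 ≤ charDegree (χ : H → ℂ) := by
  have := degree_pos χ
  have : charDegree (χ : H → ℂ) ≠ 1 := fun e => h (eq_triv_of_degree_one hG e)
  omega

end C5

open C5 in
theorem c5 {H : Type*} [Group H] [Fintype H] [Fact (Nat.Prime 5)] {T : Setup H 5}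
    {B : T.Blk fun _ => 1} {Θ Θ' : H → ℂ} (h : Bd 5 3 2 T B Θ Θ') :
    Nonempty (H ≃* Matrix.ProjectiveSpecialLinearGroup (Fin 2) (ZMod 5)) ∨
      Nonempty (H ≃* ↥(alternatingGroup (Fin 6))) := by
  classical
  have := h.simple
  obtain ⟨φ, hφ⟩ := B.nonempty_Y
  obtain ⟨χ, h1, hX, h2, h3, h4⟩ := h.toBr.e_two hφ
  have hχ : χ ∈ B.X := by simp [hX]
  have h5 := B.degX' hχ
  have h6 := deg_ne_one h.perf h1
  have h7 := h.sum_le (B.δ χ)
  have hδ := B.δ_triv h.triv
  obtain ⟨hc, hn⟩ := h.toBr.card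
  have hN : Nat.card H ≠ 0 := Nat.card_pos.ne'
  rw [Int.ModEq] at h5
  rcases B.δ_sign χ hχ with e | e <;> rw [e] at h2 h3 h5 h7 <;> rw [h2] at h3
  · exfalso
    rw [Finset.filter_true_of_mem (by simp [hX, e, hδ]), hX, Finset.sum_pair h1.symm,
      degree_triv] at h7
    obtain ⟨c, m, k, e1, e2⟩ := h.toBr.theta_deg h.chr hφ
    have e3 : c (triv H) = 1 := Nat.cast_eq_one.mp ((e1 _).symm.trans h.one)
    have e4 : c χ ≠ 0 := fun e' => h.pos hχ e (by rw [e1, e', Nat.cast_zero])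
    rw [hX, Finset.sum_pair h1.symm, e3, degree_triv, h.deg,
      show charDegree (χ : H → ℂ) = 6 by omega, show charDegree (φ : H → ℂ) = 7 by omega] at e2
    omega
  rw [show B.X.filter (B.δ · = -1) = {χ} by rw [hX]; ext; simp; grind,
    Finset.sum_singleton] at h7
  have hz := h.toBr.intX hχ fun ψ e1 e2 => by
    rw [hX, Finset.mem_insert, Finset.mem_singleton] at e1
    exact e1.resolve_left fun e3 => by rw [e3, degree_triv] at e2; omega
  have hs := fun (r : ℕ) (hr : r.Prime) => schur (H5.isCharacter_of_isIrr χ.2) (h.toBr.faith h1) hz hr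
  obtain ⟨t, i, ht, ⟨j, hi⟩, hi'⟩ := exists_invol (H := H) (by omega)
  obtain ⟨s, s1, s2⟩ := h4 t ht
  rw [hi'] at s2
  have h8 : 0 < Nat.card (centralizer ({t} : Set H)) := Nat.card_pos
  generalize Nat.card (centralizer ({t} : Set H)) = c at h8 hi' s2
  have h9 : ∀ u w, Nat.card H = 5 * w * u ^ 2 → ¬ 5 ∣ u := fun u w e1 ⟨v, e2⟩ =>
    T.hsq ⟨5 * w * v ^ 2, by rw [e1, e2]; ring⟩
  rcases (by omega : charDegree (χ : H → ℂ) = 4 ∨ charDegree (χ : H → ℂ) = 9) with e1 | e1
  · obtain ⟨m, m1, m2, m3⟩ := h.toBr.invol h1 ht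
    have e2 : s = 0 := by
      have : s = _ := Int.cast_injective (s1.symm.trans m3)
      omega
    rw [e1, show charDegree (φ : H → ℂ) = 3 by omega, e2] at s2
    have e3 : 15 * c = 4 * i := by
      have : c * (15 * c) = c * (4 * i) := by push_cast at s2; zify; linarith
      exact Nat.eq_of_mul_eq_mul_left h8 this
    obtain ⟨u, hu⟩ : ∃ u, i = 15 * u := ⟨i / 15, by omega⟩
    have e4 : Nat.card H = 5 * 12 * u ^ 2 := by rw [hi', hu, show c = 4 * u by omega]; ring
    have e5 : u = 1 := Nat.eq_one_iff_not_exists_prime_dvd.mpr fun r hr ⟨v, hv⟩ => by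
      have a1 := hs r hr
      rw [e1] at a1
      by_cases a2 : r = 3
      · subst a2
        have := le_fact hr hN (k := 3) ⟨20 * v ^ 2, by rw [e4, hv]; ring⟩
        exact absurd (this.trans a1) (by decide)
      have a3 : r ≠ 2 := by rintro rfl; omega
      have a4 : r ≠ 5 := fun a => h9 u 12 e4 ⟨v, a ▸ hv⟩
      have a5 : r ≠ 4 := fun a => absurd (a ▸ hr) (by decide)
      have := le_fact hr hN (k := 1) ⟨60 * r * v ^ 2, by rw [e4, hv]; ring⟩
      have := hr.two_le
      rw [sb_zero (by omega)] at a1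
      omega
    exact Or.inl (T.psl2_of h.perf h.cardV (by rw [h.idx]) (by rw [h.idx]; decide)
      (by rw [e5] at e4; omega)).2
  have e2 : Θ' = χ := H6.eq_of_constituent_of_degree_eq h.chr' χ.2 (h.neg hχ e)
    (by rw [cast_degree h.chr', cast_degree_irr, h.deg', e1]; norm_num)
  obtain ⟨z, z1, z2, z3, -⟩ := h.cent 2 Nat.prime_two (by decide) (by decide) t ht
  have e3 : s = 1 := by
    rw [h.reg t (by rw [ht]; decide), e2, s1] at z3
    have : s = z ^ 2 := by exact_mod_cast z3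
    rw [abs_lt] at z2
    rcases (by omega : z = 1 ∨ z = -1) with rfl | rfl <;> simpa using this
  rw [e1, show charDegree (φ : H → ℂ) = 8 by omega, e3] at s2
  have e4 : 45 * c = 8 * i := by
    have : c * (45 * c) = c * (8 * i) := by push_cast at s2; zify; linarith
    exact Nat.eq_of_mul_eq_mul_left h8 this
  obtain ⟨u, hu⟩ : ∃ u, i = 45 * u := ⟨i / 45, by omega⟩
  have e5 : Nat.card H = 5 * 72 * u ^ 2 := by rw [hi', hu, show c = 8 * u by omega]; ring
  have e6 : ∀ r : ℕ, r.Prime → r ∣ u → r = 3 := fun r hr ⟨v, hv⟩ => by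
    by_contra a2
    have a3 : r ≠ 2 := by rintro rfl; omega
    have a4 : r ≠ 5 := fun a => h9 u 72 e5 ⟨v, a ▸ hv⟩
    have a5 : r ≠ 4 := fun a => absurd (a ▸ hr) (by decide)
    have a1 := h.fact r hr a4 fun a => a2 ((Nat.prime_dvd_prime_iff_eq hr Nat.prime_three).mp a)
    have := le_fact hr hN (k := 1) ⟨360 * r * v ^ 2, by rw [e5, hv]; ring⟩
    have := hr.two_le
    rw [sb_zero (by omega)] at a1
    omega
  have e7 : u = 1 := Nat.eq_one_iff_not_exists_prime_dvd.mpr fun r hr hv => by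
    obtain rfl := e6 r hr hv
    obtain ⟨v, hv⟩ := hv
    have a1 : v = 1 := Nat.eq_one_iff_not_exists_prime_dvd.mpr fun r hr' hw => by
      obtain rfl := e6 r hr' (hv ▸ hw.mul_left 3)
      obtain ⟨w, hw⟩ := hw
      have a2 := hs 3 hr
      rw [e1] at a2
      have := le_fact hr hN (k := 6) ⟨40 * w ^ 2, by rw [e5, hv, hw]; ring⟩
      exact absurd (this.trans a2) (by decide)
    rw [hv, a1] at e5
    omega
  exact Or.inr (S0497.result (by rw [e5, e7]; norm_num))

end Cfsg.Agent.L16
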