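import Cfsg.Agent.L16.C19
import Cfsg.Agent.S0984

/-! Degree 4, `p = 7` (notes/L16.md). -/

set_option autoImplicit false
set_option linter.unusedSectionVars false

namespace Cfsg.Agent.L16

open Subgroup Cfsg Cfsg.Agent.H35

namespace C7


theorem div_cases : ∀ w ∈ Nat.divisors 3072, w % 7 = 3 →
    w = 3 ∨ w = 24 ∨ w = 192 ∨ w = 1536 := by
  decide +kernel

theorem ar {N e n w : ℕ} (h1 : N = 5 * 1 * e * (1 + n * 5)) (h2 : N = 105 * w)
    (h3 : w = 3 ∨ w = 24 ∨ w = 192 ∨ w = 1536) (h4 : 10 ∣ N) (h5 : e ≠ 1) (h6 : e ≤ 5 - 1)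
    (h7 : e ≠ 3) (h8 : e ≠ 0) : N = 2520 ∨ e = 2 ∧ N = 20160 := by
  rcases (by omega : e = 2 ∨ e = 4) with rfl | rfl <;> rcases h3 with rfl | rfl | rfl | rfl <;> omega

end C7

open C5 C19 C7 in
theorem c7 {H : Type*} [Group H] [Fintype H] [Fact (Nat.Prime 7)] {T : Setup H 7}
    {B : T.Blk fun _ => 1} {Θ Θ' : H → ℂ} (h : Bd 7 4 3 T B Θ Θ') :
    Nonempty (H ≃* Matrix.ProjectiveSpecialLinearGroup (Fin 2) (ZMod 7)) ∨
      Nonempty (H ≃* ↥(alternatingGroup (Fin 7))) := by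
  classical
  have := h.simple
  obtain ⟨φ, hφ⟩ := B.nonempty_Y
  obtain ⟨χ₂, χ₃, h1, h2, h3, hX, h4, h5, hr, h6, h7⟩ := h.toBr.e_three hφ
  have m2 : χ₂ ∈ B.X := by simp [hX]
  have m3 : χ₃ ∈ B.X := by simp [hX]
  have d2 := B.degX' m2
  have d3 := B.degX' m3
  have d4 := degree_pos φ
  have hN : Nat.card H ≠ 0 := Nat.card_pos.ne'
  have hφ1 := B.ne_triv_of_mem_Y h.triv hφ
  rw [h4, Int.ModEq] at d3
  rw [Int.ModEq] at d2
  rcases sums h.toBr h1 h2 h3 hX h4 h.sum_le with ⟨e, e1, e2⟩ | ⟨e, e1⟩ <;>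
    rw [e] at h5 h6 d2 hr <;> rw [h5] at h6 hr
  swap
  · rw [show charDegree (χ₂ : H → ℂ) = 6 by omega, show charDegree (χ₃ : H → ℂ) = 6 by omega,
      show charDegree (φ : H → ℂ) = 11 by omega] at h7
    exact absurd h7 (by decide +kernel)
  have e4 : charDegree (χ₃ : H → ℂ) = 6 := by
    by_contra e4
    rw [show charDegree (χ₂ : H → ℂ) = 15 by omega, show charDegree (χ₃ : H → ℂ) = 13 by omega,
      show charDegree (φ : H → ℂ) = 3 by omega] at h7
    exact absurd h7 (by decide +kernel)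
  rcases (by omega : charDegree (χ₂ : H → ℂ) = 8 ∨ charDegree (χ₂ : H → ℂ) = 15) with e3 | e3
  · obtain ⟨f⟩ := T.psl2_of_small_degree (H5.isCharacter_of_isIrr φ.2) (h.toBr.faith hφ1)
      (by omega) (T.card_sylow_ne_one' h.perf)
    exact Or.inl ⟨(QuotientGroup.quotientBot.symm.trans
      (QuotientGroup.quotientMulEquivOfEq h.toBr.center.symm)).trans f⟩
  have e5 : charDegree (φ : H → ℂ) = 10 := by omega
  have hz : ∀ χ ∈ B.X, ∀ g, ∃ z : ℤ, (χ : H → ℂ) g = z := fun χ hχ =>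
    h.toBr.intX hχ fun ψ a1 a2 => by
      have := degree_triv (G := H)
      simp only [hX, Finset.mem_insert, Finset.mem_singleton] at hχ a1
      rcases hχ with rfl | rfl | rfl <;> rcases a1 with rfl | rfl | rfl <;> first | rfl | omega
  have hpr : ∀ r : ℕ, r.Prime → r ∣ Nat.card H → r = 2 ∨ r = 3 ∨ r = 5 ∨ r = 7 := fun r a1 a2 => by
    by_contra a3
    have a4 : r ≠ 4 := fun a => absurd (a ▸ a1) (by decide)
    have := a1.two_le
    have a5 := h.fact r a1 (by omega) fun a => by have := Nat.le_of_dvd (by decide) a; omega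
    have := le_fact a1 hN (k := 1) ((pow_one r).symm ▸ a2)
    rw [sb_zero (by omega)] at a5
    omega
  have f5 : ∀ k, 5 ^ k ∣ Nat.card H → k ≤ 1 := fun k a => (le_fact Nat.prime_five hN a).trans
    (h.fact 5 Nat.prime_five (by decide) (by decide))
  have hd : Nat.card H ∣ 2 ^ 10 * 3 ^ 2 * 5 ^ 1 * 7 ^ 1 := by
    refine (Nat.dvd_iff_prime_pow_dvd_dvd _ _).mpr fun r k a1 a2 => ?_
    rcases k with _ | k
    · simp
    rcases hpr r a1 ((dvd_pow_self r k.succ_ne_zero).trans a2) with rfl | rfl | rfl | rfl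
    · have a3 := schur (H5.isCharacter_of_isIrr χ₃.2) (h.toBr.faith h2) (hz _ m3) a1
      rw [e4] at a3
      exact (pow_dvd_pow 2 ((le_fact a1 hN a2).trans (a3.trans (by decide : _ ≤ 10)))).trans
        (((dvd_mul_right _ _).mul_right _).mul_right _)
    · exact (pow_dvd_pow 3 ((le_fact a1 hN a2).trans ((h.fact 3 a1 (by decide)
        (by decide)).trans (by decide : _ ≤ 2)))).trans (((dvd_mul_left _ _).mul_right _).mul_right _)
    · exact (pow_dvd_pow 5 (f5 _ a2)).trans ((dvd_mul_left _ _).mul_right _)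
    · exact (pow_dvd_pow 7 (not_lt.mp fun a3 => T.hsq ((pow_dvd_pow 7 a3).trans a2))).trans
        (dvd_mul_left _ _)
  obtain ⟨hc, hn⟩ := h.toBr.card
  have d5 := H5.degree_dvd_card φ.2 (by rw [cast_degree_irr, e5])
  obtain ⟨w, hw⟩ : ∃ w, Nat.card H = 105 * w := ⟨Nat.card H / 105, by omega⟩
  have hw' := div_cases w (Nat.mem_divisors.mpr ⟨Nat.dvd_of_mul_dvd_mul_left (by decide : 0 < 105)
    (by rw [← hw]; exact hd), by decide⟩) (by omega)
  have : Fact (Nat.Prime 5) := ⟨Nat.prime_five⟩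
  obtain ⟨y, hy⟩ := exists_prime_orderOf_dvd_card' (G := H) 5 (by omega)
  obtain ⟨S, rfl⟩ := exists_setup hy fun a => absurd (f5 2 a) (by decide)
  have hV : Nat.card S.V = 1 := Nat.eq_one_iff_not_exists_prime_dvd.mpr fun r a1 a2 => by
    have := Fact.mk a1
    obtain ⟨v, hv⟩ := exists_prime_orderOf_dvd_card' r a2
    have a3 : orderOf ((v : S.K) : H) = r := by rw [orderOf_coe, orderOf_coe, hv]
    have a4 := h.toBr.not_dvd Nat.prime_five (by decide) hy (S.commute_x v)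
    have a5 := S.not_dvd_orderOf (v : S.K)
    have a6 : ((v : S.K) : H) ≠ 1 := fun a => a1.ne_one (by rw [← a3, a, orderOf_one])
    obtain ⟨z, z1⟩ := h.toBr.intY hφ a4
    obtain ⟨z2, z3⟩ := hz _ m2 (v : S.K)
    obtain ⟨z4, z5⟩ := hz _ m3 (v : S.K)
    obtain ⟨τ, t1, t2⟩ := tau_of_dvd S (χ := φ) (by rw [e5]; decide)
    obtain ⟨τ', t3, t4⟩ := tau_of_dvd S (χ := χ₂) (by rw [e3]; decide)
    have a7 := tau_int Nat.prime_five t1 (z1.symm.trans (t2 v))
    have a8 := tau_int Nat.prime_five t3 (z3.symm.trans (t4 v))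
    have a9 := hr _ a4
    have b1 := abs_lt.mp (h.toBr.abs_lt hφ1 a6 z1)
    have b2 := abs_lt.mp (h.toBr.abs_lt h1 a6 z3)
    have b3 := abs_lt.mp (h.toBr.abs_lt h2 a6 z5)
    have b4 := int_dvd (H5.isCharacter_of_isIrr φ.2) a1 a3 z1
    have b5 := int_dvd (H5.isCharacter_of_isIrr χ₂.2) a1 a3 z3
    rw [z1, z3, z5] at a9
    have b6 : 1 * z = 1 + 1 * z2 - z4 := by exact_mod_cast a9
    rw [a3] at a4 a5
    rcases hpr r a1 (a3 ▸ orderOf_dvd_natCard _) with rfl | rfl | rfl | rfl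
    · obtain ⟨m, m4, m5, m6⟩ := h.toBr.invol hφ1 a3
      have : z = _ := Int.cast_injective (z1.symm.trans m6)
      omega
    all_goals omega
  have c1 := S.card_eq
  obtain ⟨n, c2⟩ := Setup.exists_card_sylow (G := H) (p := 5)
  have c3 := S.index_ne_one h.perf
  have c4 := Nat.le_of_dvd (by decide) S.index_dvd_pred
  have c5 : S.V.index ≠ 3 := fun a => absurd (a ▸ S.index_dvd_pred) (by decide)
  have c6 : S.V.index ≠ 0 := index_ne_zero_of_finite
  rw [hV, c2] at c1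
  rcases ar c1 hw hw' d5 c3 c4 c5 c6 with c7 | ⟨c7, c8⟩
  · exact Or.inr (S0984.result c7)
  exfalso
  obtain ⟨A, hA⟩ := S.exists_principal
  have hB : Br 5 2 S A := ⟨h.simple, h.perf, hV, c7, hA, le_rfl, by decide⟩
  obtain ⟨ψ, hψ⟩ := A.nonempty_Y
  obtain ⟨χ, -, a1, a2, a3, a4⟩ := hB.e_two hψ
  obtain ⟨a5, a6⟩ := hB.memX (χ := χ₃) (Or.inl rfl) (by rw [e4]; decide)
  rw [a1, Finset.mem_insert, Finset.mem_singleton] at a5
  obtain rfl := a5.resolve_left h2
  obtain ⟨t, ht⟩ := exists_prime_orderOf_dvd_card' (G := H) 2 (by rw [c8]; decide)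
  obtain ⟨s, s1, s2⟩ := a4 t ht
  obtain ⟨m, m4, m5, m6⟩ := h.toBr.invol h2 ht
  have s3 : s = _ := Int.cast_injective (s1.symm.trans m6)
  rw [a2, a6] at a3
  rw [e4] at s3 m5
  rw [e4, show charDegree (ψ : H → ℂ) = 7 by omega, c8, s3] at s2
  generalize Nat.card (centralizer ({t} : Set H)) = c at s2
  rcases (by omega : m = 1 ∨ m = 2) with rfl | rfl <;> push_cast at s2
  · exact (by decide +kernel : ¬ IsSquare 1536) ⟨c, by zify; linarith⟩
  · exact (by decide +kernel : ¬ IsSquare 6144) ⟨c, by zify; linarith⟩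

end Cfsg.Agent.L16
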