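import Cfsg.Agent.H34.BlauMain
import Cfsg.Agent.H35.PMinus2
import Cfsg.Agent.H35.Stanton
import Cfsg.Agent.H44.Cores
import Cfsg.Prelude.Def_Amalgam
import Mathlib.FieldTheory.Finite.GaloisField

/-! Linear groups of small degree with a large prime divisor: definitions (notes/L16.md). -/

set_option autoImplicit false
set_option linter.unusedSectionVars false

namespace Cfsg.Agent.L16

open Subgroup Cfsg Cfsg.Agent.H35

/-- faithfulness of a character -/
abbrev Fa {G : Type*} [Group G] (χ : G → ℂ) : Prop := ∀ g : G, χ g = χ 1 → g = 1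

/-- Schur's bound for the exponent of the prime `r` -/
abbrev sb (d r : ℕ) : ℕ := ∑ i ∈ Finset.range (d + 1), d / ((r - 1) * r ^ i)

/-- the four exceptional conclusions -/
def Concl (p d : ℕ) [Fact p.Prime] (G : Type*) [Group G] : Prop :=
  (Nonempty (G ⧸ center G ≃* Matrix.ProjectiveSpecialLinearGroup (Fin 2) (ZMod p)) ∧
    (2 * d = p + 1 ∨ 2 * d = p - 1)) ∨
  (p = 17 ∧ d = 15 ∧ ∃ (A : Type) (_ : CommGroup A) (_ : Finite A),
    Nonempty (G ≃* Matrix.SpecialLinearGroup (Fin 2) (GaloisField 2 4) × A)) ∨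
  (p = 7 ∧ d = 4 ∧ Nonempty (G ⧸ center G ≃* ↥(alternatingGroup (Fin 7)))) ∨
  (p = 5 ∧ d = 3 ∧ Nonempty (G ⧸ center G ≃* ↥(alternatingGroup (Fin 6))))

/-- reduced configuration: a perfect group with a faithful character of degree `p - e` -/
structure Cf {G : Type*} [Group G] [Finite G] (p d e : ℕ) [Fact p.Prime] (S : Setup G p)
    (ζ : IrrCharacter G) : Prop where
  perf : commutator G = ⊤
  faith : Fa (ζ : G → ℂ)
  deg : charDegree (ζ : G → ℂ) = d
  idx : S.V.index = e
  sum : d + e = p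
  two : 2 ≤ e
  lt : p < 2 * d
  cen : ∀ v : S.V, ((v : S.K) : G) ∈ center G
  gen : normalClosure ({S.x} : Set G) = ⊤

/-- principal block of a simple group with a self-centralizing Sylow subgroup of order `p` -/
structure Br {H : Type*} [Group H] [Finite H] (p e : ℕ) [Fact p.Prime] (T : Setup H p)
    (B : T.Blk fun _ => 1) : Prop where
  simple : IsSimpleGroup H
  perf : commutator H = ⊤
  cardV : Nat.card T.V = 1
  idx : T.V.index = e
  triv : triv H ∈ B.X
  two : 2 ≤ e
  lt : 2 * e < p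

/-- the data that a configuration `Cf` leaves on the central quotient -/
structure Bd {H : Type*} [Group H] [Fintype H] (p d e : ℕ) [Fact p.Prime] (T : Setup H p)
    (B : T.Blk fun _ => 1) (Θ Θ' : H → ℂ) : Prop extends Br p e T B where
  chr : IsCharacter H Θ
  chr' : IsCharacter H Θ'
  deg : charDegree Θ = d ^ 2
  deg' : charDegree Θ' = d ^ 2
  reg : ∀ g, ¬ p ∣ orderOf g → Θ g = Θ' g
  one : classInner Θ (fun _ => 1) = 1
  one' : classInner Θ' (fun _ => 1) = 0
  fact : ∀ r : ℕ, r.Prime → r ≠ p → ¬ r ∣ d → (Nat.card H).factorization r ≤ sb d r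
  cent : ∀ r : ℕ, r.Prime → r ≠ p → ¬ r ∣ d → ∀ y : H, orderOf y = r → ∃ z : ℤ,
    (r : ℤ) ∣ z - d ∧ |z| < d ∧ Θ y = z ^ 2 ∧
      ((p - 1) / e : ℕ) * z ^ 2 ≤ (Nat.card (centralizer ({y} : Set H)) : ℤ)

/-- a perfect subgroup generated by the conjugates of its Sylow subgroup `⟨x⟩` of order `p` -/
structure Kd {G : Type*} [Group G] (p : ℕ) (K : Subgroup G) (x : G) : Prop where
  mem : x ∈ K
  ord : orderOf x = p
  perf : commutator K = ⊤
  sq : ¬ p ^ 2 ∣ Nat.card K
  gen : normalClosure ({⟨x, mem⟩} : Set K) = ⊤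

/-- the non-trivial eigenvalues of `x` are simple, and there are at least `(p - 1) / 2` -/
def Eig {G : Type*} [Group G] (p : ℕ) [Fact p.Prime] (χ : G → ℂ) (x : G) : Prop :=
  ∃ (C : Finset (ZMod p)) (u : ℕ), 0 ∉ C ∧ p - 1 ≤ 2 * C.card ∧
    ∀ i : ZMod p, χ (x ^ i.val) = u + ∑ c ∈ C, ech p (c * i)

/-- the weights of `P` on `χ` which are non-trivial at `x` -/
def wts {G : Type*} [Group G] (χ : G → ℂ) (P : Subgroup G) [Fintype P] (x : P) :
    Set (P →* ℂˣ) :=
  {l | classInner (fun a : P => χ a) (fun a => (l a : ℂ)) ≠ 0 ∧ l x ≠ 1}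

/-- many weights agree on the subgroup `A` of index `p` -/
structure Good {G : Type*} [Group G] (p : ℕ) (χ : G → ℂ) (P : Subgroup G) [Fintype P] (x : P)
    (A : Subgroup G) : Prop where
  le : A ≤ P
  idx : A.relIndex P = p
  big : p - 1 ≤ 2 * (wts χ P x).ncard
  agree : ∀ l ∈ wts χ P x, ∀ l' ∈ wts χ P x, ∀ a : P, (a : G) ∈ A → l a = l' a

end Cfsg.Agent.L16
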