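import Cfsg.Agent.L16.Klem
import Cfsg.Agent.H54.FT
import Cfsg.Agent.H88.Eig

set_option autoImplicit false
set_option linter.unusedSectionVars false

namespace Cfsg.Agent.L16

open Subgroup Cfsg Cfsg.Agent.H35

namespace Five

variable {G : Type*} [Group G] [Finite G] {χ : G → ℂ}

/-- a homology as a combination of the identity and an involution -/
theorem homology (hχ : IsCharacter G χ) {w : G} {β γ : ℂ} (hw : w ^ 10 = 1) (hβ : β ^ 5 = 1)
    (hγ : γ ^ 5 = 1) (h : ∀ n : ℕ, χ (w ^ n) = 2 * (-β) ^ n + γ ^ n) (g : G) :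
    2 * χ (w ^ 6 * g) = (γ + β) * χ g + (γ - β) * χ (w ^ 5 * g) := by
  classical
  obtain ⟨d, ρ, rfl⟩ := hχ
  obtain ⟨b, μ, h1, h2⟩ := H5.exists_eigenbasis ρ w
  have h3 : ∀ (n : ℕ) i, ρ (w ^ n) (b i) = μ i ^ n • b i := fun n i => by
    simpa using h2 n i
  have h4 : ∀ i, μ i ^ 10 = 1 := fun i => by
    obtain ⟨k, hk⟩ := orderOf_dvd_of_pow_eq_one hw
    rw [hk, pow_mul, h1, one_pow]
  have h5 : ∀ n : ℕ, ∑ i, μ i ^ n = ∑ i, (![-β, -β, γ] : Fin 3 → ℂ) i ^ n := fun n => by
    rw [← H5.trace_eq_sum_of_eigenbasis _ b _ (h3 n)]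
    refine (h n).trans ?_
    simp [Fin.sum_univ_three]; ring
  have h6 : ∀ i, μ i = -β ∨ μ i = γ := fun i => by
    have e1 := H88.sum_pow_mul_inv_pow (q := 10) (by norm_num) μ h4 (h4 i)
    have e2 := H88.sum_pow_mul_inv_pow (q := 10) (by norm_num) (![-β, -β, γ] : Fin 3 → ℂ) (fun j => by
      have k1 : (-β) ^ 10 = 1 := by linear_combination (β ^ 5 + 1) * hβ
      have k2 : γ ^ 10 = 1 := by linear_combination (γ ^ 5 + 1) * hγ
      fin_cases j
      exacts [k1, k1, k2]) (h4 i)
    simp only [h5] at e1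
    rw [e1] at e2
    have e3 : (Finset.univ.filter fun j => μ j = μ i).card =
        (Finset.univ.filter fun j => (![-β, -β, γ] : Fin 3 → ℂ) j = μ i).card := by
      exact_mod_cast mul_left_cancel₀ (by norm_num) e2
    obtain ⟨j, hj⟩ := Finset.card_pos.1 (e3 ▸ Finset.card_pos.2 ⟨i, by simp⟩)
    have hj' := (Finset.mem_filter.1 hj).2
    fin_cases j
    exacts [.inl hj'.symm, .inl hj'.symm, .inr hj'.symm]
  have h7 : (2 : ℂ) • ρ (w ^ 6) = (γ + β) • 1 + (γ - β) • ρ (w ^ 5) := b.ext fun i => by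
    simp only [LinearMap.smul_apply, LinearMap.add_apply, h3, Module.End.one_apply, smul_smul,
      ← add_smul]
    congr 1
    rcases h6 i with e | e <;> rw [e]
    · linear_combination (γ + β) * hβ
    · linear_combination (γ + β) * hγ
  have h8 := congrArg (fun f => LinearMap.trace ℂ _ (f * ρ g)) h7
  simp only [smul_mul_assoc, add_mul, one_mul, map_add, map_smul, smul_eq_mul, ← map_mul] at h8
  simp only [Representation.character]
  linear_combination h8

theorem red [Fact (Nat.Prime 5)] (hχ : IsCharacter G χ) (hf : Fa χ) (hd : charDegree χ = 3)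
    (hO : pCore 5 G = ⊥) {y j : G} {β γ : ℂ} (hβ : β ^ 5 = 1) (hγ : γ ^ 5 = 1)
    (h : ∀ g, 2 * χ (y * g) = (γ + β) * χ g + (γ - β) * χ (j * g)) : y = 1 := by
  classical
  obtain ⟨k, _, _, ⟨φ⟩⟩ := exists_residue 5
  let C : G → integralClosure ℤ ℂ := fun g => ⟨χ g, H5.isIntegral_apply hχ g⟩
  have r1 : ∀ z : ℂ, z ^ 5 = 1 → ∃ Z : integralClosure ℤ ℂ, (Z : ℂ) = z ∧ φ Z = 1 := by
    intro z hz
    refine ⟨⟨z, IsIntegral.of_pow (by norm_num : 0 < 5) (by rw [hz]; exact isIntegral_one)⟩, rfl, ?_⟩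
    rw [← pow_one (φ _), ← ExpChar.pow_prime_pow_mul_eq_one_iff 5 1 1, ← map_pow, ← map_one φ]
    exact congrArg φ (Subtype.ext hz)
  obtain ⟨B, rfl, rB⟩ := r1 β hβ
  obtain ⟨Γ, rfl, rΓ⟩ := r1 γ hγ
  have cc : ∀ a b, C (a * b) = C (b * a) := fun a b => Subtype.ext (H5.isCharacter_mul_comm hχ a b)
  let N : Subgroup G :=
    { carrier := {z | ∀ g, φ (C (z * g)) = φ (C g)}
      one_mem' := fun g => by rw [one_mul]
      mul_mem' := fun {a b} ha hb g => by rw [mul_assoc, ha, hb]
      inv_mem' := fun {a} ha g => by rw [← ha, mul_inv_cancel_left] }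
  have hN : N.Normal := ⟨fun z hz a g => by
    rw [mul_assoc, mul_assoc, cc, mul_assoc, hz, cc, mul_inv_cancel_left]⟩
  have two : ((2 : ℕ) : k) ≠ 0 := fun e => absurd ((CharP.cast_eq_zero_iff k 5 2).1 e) (by norm_num)
  have yN : y ∈ N := fun g => by
    have e : 2 * C (y * g) = (Γ + B) * C g + (Γ - B) * C (j * g) := Subtype.ext (h g)
    have e2 := congrArg φ e
    rw [map_add, map_mul, map_mul, map_mul, map_add, map_sub, rB, rΓ, map_ofNat] at e2
    refine mul_left_cancel₀ two ?_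
    push_cast
    linear_combination e2
  have c1 : χ 1 = 3 := by rw [← H88.charDegree_cast hχ, hd]; norm_num
  have hp : IsPGroup 5 N := by
    refine IsPGroup.of_card (Nat.eq_prime_pow_of_unique_prime_dvd Nat.card_pos.ne' fun {r} hr hdvd => ?_)
    by_contra r5
    haveI := Fact.mk hr
    obtain ⟨z, hz⟩ := exists_prime_orderOf_dvd_card' r hdvd
    rw [← orderOf_coe] at hz
    obtain ⟨lam, hl⟩ := H88.exists_eigenvalues_det hχ
    obtain ⟨μ, m1, m2, -⟩ := hl z
    rw [hz] at m1
    have e1 := H88.sum_pow_mul_inv_pow hr.ne_zero μ m1 (one_pow r)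
    simp only [inv_one, one_pow, mul_one, ← m2] at e1
    set m := (Finset.univ.filter fun i => μ i = 1).card with hm
    have e2 : ∑ n ∈ Finset.range r, C ((z : G) ^ n) = r * m := Subtype.ext (by
      push_cast; exact e1)
    have e3 := congrArg φ e2
    have e4 : ∀ n, φ (C ((z : G) ^ n)) = 3 := fun n => by
      have := N.pow_mem z.2 n 1
      rw [mul_one] at this
      rw [this, ← map_ofNat φ 3]
      exact congrArg φ (Subtype.ext c1)
    simp only [map_sum, e4, map_mul, map_natCast, Finset.sum_const, Finset.card_range, nsmul_eq_mul] at e3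
    have r0 : (r : k) ≠ 0 := fun e =>
      r5 ((Nat.prime_dvd_prime_iff_eq (by norm_num) hr).1 ((CharP.cast_eq_zero_iff k 5 r).1 e)).symm
    have e5 : ((3 : ℕ) : k) = m := by exact_mod_cast mul_left_cancel₀ r0 e3
    have e6 := (CharP.natCast_eq_natCast k 5).1 e5
    have e7 : m ≤ 3 := by
      rw [← hd]; exact (Finset.card_le_univ _).trans (Fintype.card_fin _).le
    have e8 : m = Fintype.card (Fin (charDegree χ)) := by
      rw [Fintype.card_fin, hd]; unfold Nat.ModEq at e6; omega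
    have e9 : ∀ i, μ i = 1 := fun i =>
      (Finset.mem_filter.1 ((Finset.eq_univ_of_card _ e8).ge (Finset.mem_univ i))).2
    have e10 := m2 1
    simp only [pow_one, e9, Finset.sum_const, Finset.card_univ, Fintype.card_fin, nsmul_eq_mul,
      mul_one, H88.charDegree_cast hχ] at e10
    rw [hf _ e10, orderOf_one] at hz
    exact hr.ne_one hz.symm
  exact mem_bot.1 (hO ▸ H44.le_pCore hN hp yN)

end Five

theorem five {G : Type*} [Group G] [Finite G] [Fact (Nat.Prime 5)] {χ : G → ℂ}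
    (hχ : IsIrrCharacter G χ) (hf : Fa χ) (hd : charDegree χ = 3) (hO : pCore 5 G = ⊥)
    {K : Subgroup G} {x y : G} (h : Kd 5 K x) (hy : orderOf y = 5)
    (hyK : ∀ k ∈ K, Commute y k) : False := by
  have hc := H5.isCharacter_of_isIrr hχ
  obtain ⟨ω, β, ρ, hω, h2, hβ, hρ, e⟩ := dec' hc hf (by omega) h hyK
  rw [hy] at hβ
  have y1 : y ≠ 1 := fun k => by rw [k, orderOf_one] at hy; omega
  have y5 : y ^ 5 = 1 := hy ▸ pow_orderOf_eq_one y
  have c1 : χ 1 = 3 := by rw [← H88.charDegree_cast hc, hd]; norm_num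
  have e0 : ∀ k : K, χ k = ω k + ρ 1 := fun k => by
    have := e k 0
    simp only [pow_zero, mul_one, one_mul] at this
    exact this
  have e1 := e0 1
  rw [OneMemClass.coe_one, c1, ← H88.charDegree_cast hρ,
    ← H88.charDegree_cast (H5.isCharacter_of_isIrr hω)] at e1
  have e2 : 3 = charDegree ω + charDegree ρ := by exact_mod_cast e1
  obtain ⟨t, ht⟩ : ∃ t : K, orderOf t = 2 := by
    refine exists_prime_orderOf_dvd_card' 2 ?_
    by_contra k
    haveI := H54.odd_order_solvable (G := K) (Nat.odd_iff.2 (by omega))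
    haveI : Nontrivial K := ⟨⟨⟨x, h.mem⟩, 1, fun k => by
      have := h.ord
      rw [show x = 1 from congrArg Subtype.val k, orderOf_one] at this; omega⟩⟩
    exact (Group.IsSolvable.commutator_lt_top_of_nontrivial K).ne h.perf
  have t2 : t * t = 1 := by rw [← sq, ← ht, pow_orderOf_eq_one]
  have t2' : (t : G) * t = 1 := congrArg Subtype.val t2
  rcases (show charDegree ρ = 0 ∨ charDegree ρ = 1 by omega) with k | k
  · have r0 := H5.eq_zero_of_degree_eq_zero hρ (by rw [← H88.charDegree_cast hρ, k]; simp)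
    refine y1 (Five.red hc hf hd hO (j := 1) hβ hβ fun g => ?_)
    have e4 := e 1 1
    rw [r0, OneMemClass.coe_one, one_mul, Pi.zero_apply, add_zero, pow_one, pow_one,
      ← H88.charDegree_cast (H5.isCharacter_of_isIrr hω), show charDegree ω = 3 by omega] at e4
    have n1 : ‖χ y‖ = ‖χ 1‖ := by
      rw [e4, c1, norm_mul, H5.norm_eq_one_of_pow_eq_one' (by norm_num) hβ]
      simp
    obtain ⟨c, -, -, hc2⟩ := H5.exists_apply_mul_eq_of_norm_eq hc n1
    have e3 := hc2 1
    rw [mul_one, e4, c1] at e3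
    have : c = β := by push_cast at e3; linear_combination -e3 / 3
    rw [hc2, this]; ring
  have r1 : ρ 1 = 1 := by rw [← H88.charDegree_cast hρ, k]; simp
  obtain ⟨lam, rfl⟩ := H5.exists_monoidHom_of_degree_one hρ r1
  have l1 : ∀ n : ℕ, (lam ⟨y ^ n, npow_mem_zpowers y n⟩ : ℂ) = (lam ⟨y, mem_zpowers y⟩ : ℂ) ^ n := fun n => by
    rw [← Units.val_pow_eq_pow_val, ← map_pow]; rfl
  have hγ : (lam ⟨y, mem_zpowers y⟩ : ℂ) ^ 5 = 1 := by
    rw [← l1, show (⟨y ^ 5, npow_mem_zpowers y 5⟩ : zpowers y) = 1 from Subtype.ext y5]; simp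
  obtain ⟨m, m1, m2⟩ := H88.exists_degree_sub_eq_four_mul hc t2' (by
    have : (t : G) ∈ (commutator K).map K.subtype := ⟨t, h.perf ▸ mem_top t, rfl⟩
    rw [_root_.commutator_def, map_commutator] at this
    exact commutator_mono le_top le_top this)
  have m3 : m = 1 := by
    rcases (show m = 0 ∨ m = 1 by omega) with rfl | rfl
    · have := hf t (by simpa using m1)
      rw [show t = 1 from Subtype.ext this, orderOf_one] at ht; omega
    · rfl
  have w1 : ω 1 = 2 := by
    rw [← H88.charDegree_cast (H5.isCharacter_of_isIrr hω), show charDegree ω = 2 by omega]; norm_num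
  have wt : ω t = -2 := by
    have := e0 t
    rw [m1, m3, c1, r1] at this
    push_cast at this
    linear_combination -this
  have cm : Commute (t : G) y := (hyK t t.2).symm
  have tp : ∀ n : ℕ, (t : G) ^ (2 * n) = 1 := fun n => by rw [pow_mul, sq, t2', one_pow]
  have key := Five.homology hc (w := t * y) (by
    rw [cm.mul_pow, tp 5, one_mul, show 10 = 5 * 2 from rfl, pow_mul, y5, one_pow]) hβ hγ fun n => by
    rw [cm.mul_pow, ← l1, ← SubmonoidClass.coe_pow, e, neg_pow β]
    congr 1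
    rcases Nat.even_or_odd' n with ⟨i, rfl | rfl⟩
    · rw [show t ^ (2 * i) = 1 from Subtype.ext (tp i), w1]; simp; ring
    · rw [show t ^ (2 * i + 1) = t from Subtype.ext (by simp [pow_succ, tp i]), wt]; simp [pow_succ]; ring
  rw [cm.mul_pow, cm.mul_pow, tp 3, one_mul, pow_succ y, y5, one_mul] at key
  exact y1 (Five.red hc hf hd hO hβ hγ key)

end Cfsg.Agent.L16
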