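import Cfsg.Agent.L16.Defs
import Cfsg.Agent.H30.ExtGroup

/-! Restriction of a character of small degree to a perfect subgroup (notes/L16.md). -/

set_option autoImplicit false
set_option linter.unusedSectionVars false

namespace Cfsg.Agent.L16

open Subgroup Cfsg Cfsg.Agent.H35

namespace Klem

variable {L : Type*} [Group L] [Finite L] {p : ℕ} [hp : Fact p.Prime] (S : Setup L p)

theorem deg_ge (hL : commutator L = ⊤) (hg : normalClosure ({S.x} : Set L) = ⊤) {ψ : L → ℂ}
    (hψ : IsIrrCharacter L ψ) (h1 : ψ ≠ fun _ => 1) :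
    2 ≤ charDegree ψ ∧ p - 1 ≤ 2 * charDegree ψ := by
  refine ⟨two_le_degree hL (χ := ⟨ψ, hψ⟩) fun e => h1 (congrArg Subtype.val e), ?_⟩
  have hc := H5.isCharacter_of_isIrr hψ
  obtain ⟨φ, h2, h3⟩ := H5.exists_isCharacter_quotient (H5.charKer hc) hc fun _ h => h
  have h4 : (S.x : L ⧸ H5.charKer hc) ≠ 1 := fun e => h1 (H5.eq_one_of_forall_eq_degree hψ fun g =>
    normalClosure_le_normal (N := H5.charKer hc)
      (Set.singleton_subset_iff.mpr ((QuotientGroup.eq_one_iff _).mp e)) (hg ▸ mem_top g))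
  obtain ⟨T, -⟩ := exists_setup (orderOf_eq_prime (by
    rw [← QuotientGroup.mk_pow, orderOf_dvd_iff_pow_eq_one.mp S.hx.dvd, QuotientGroup.mk_one]) h4)
    fun e => S.hsq (e.trans (card_quotient_dvd_card _))
  have : Group.IsPerfect L := ⟨hL⟩
  rw [show charDegree ψ = charDegree φ from congrArg charDegree h3]
  by_cases h5 : 2 * charDegree φ ≤ p
  · refine (T.small_degree h2 (fun g hg => ?_) h5
      (T.card_sylow_ne_one' (Group.isPerfect_def.mp inferInstance))).2.2.1.ge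
    obtain ⟨g, rfl⟩ := QuotientGroup.mk_surjective g
    exact (QuotientGroup.eq_one_iff _).mpr ((congrFun h3 g).trans (hg.trans (congrFun h3 1).symm))
  · omega

theorem orb_le [Fintype L] {χ : L → ℂ} (hc : IsClassFunction L χ) {m : ZMod p → ℕ}
    (hm : ∀ c, H34.blM S χ c = m c) {c : ZMod p} (h0 : c ≠ 0) : S.V.index * m c ≤ ∑ a, m a := by
  classical
  have := Fintype.ofFinite (S.autH fun _ => 1)
  have h4 : ∀ h : S.autH fun _ => 1, m (c * (h : (ZMod p)ˣ)) = m c := fun ⟨_, k, _, rfl⟩ =>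
    Nat.cast_injective (R := ℂ) (by rw [← hm, ← hm, H34.blM_mul S hc])
  rw [← S.card_autH_one, Nat.card_eq_fintype_card, ← smul_eq_mul, ← Finset.card_univ,
    ← Finset.sum_const, ← Finset.sum_congr rfl fun h _ => h4 h,
    ← Finset.sum_image (g := fun h : S.autH fun _ => 1 => c * (h : (ZMod p)ˣ)) fun a _ b _ e =>
      Subtype.ext (Units.ext (mul_left_cancel₀ h0 e))]
  exact Finset.sum_le_sum_of_subset (Finset.subset_univ _)

theorem mult_le [Fintype L] (hL : commutator L = ⊤) {ω : L → ℂ} (hω : IsIrrCharacter L ω)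
    (hf : Fa ω) (hd : charDegree ω + 1 < p) (h2 : 2 ≤ charDegree ω)
    (h3 : p - 1 ≤ 2 * charDegree ω) {m : ZMod p → ℕ} (hm : ∀ c, H34.blM S ω c = m c)
    (hs : ∑ c, m c = charDegree ω) : (∀ c, c ≠ 0 → m c ≤ 1) ∧ p - 1 + 2 * m 0 ≤ 2 * charDegree ω := by
  classical
  have hx1 : ω S.x ≠ ω 1 := fun e => hp.out.ne_one (by rw [← S.hx, hf _ e, orderOf_one])
  have he : 0 < S.V.index := Nat.pos_of_ne_zero index_ne_zero_of_finite
  obtain ⟨θ, B, hY, ⟨a1, a2⟩ | ⟨a1, a2, a3, a4, a5⟩⟩ := S.below_pred (χ := ⟨ω, hω⟩) hd hx1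
  · obtain ⟨C, c1, c3, c2⟩ := H34.bl_plus_supp S B hY a1 a2
    change charDegree ω = _ at a2
    obtain b | b : charDegree (θ : S.V → ℂ) = 1 ∨ 2 ≤ charDegree (θ : S.V → ℂ) := by
      have := degree_pos θ; omega
    · rw [b, mul_one] at a2
      have b1 : m 0 = 0 := Nat.cast_eq_zero.mp ((hm 0).symm.trans (c2 0 c3))
      refine ⟨fun c hc => Nat.le_of_mul_le_mul_left ?_ he, by omega⟩
      exact (orb_le S (H5.isClassFunction_of_isIrr hω) hm hc).trans (by rw [hs, a2, mul_one])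
    exfalso
    have b1 := Nat.mul_le_mul_left S.V.index b
    by_cases b2 : 6 ≤ p
    · have := S.pred_le_two_mul_index hL (Setup.card_sylow_eq_of_le (S.card_sylow_ne_one' hL)
        (H34.bl_few_eigen S hω hf hd b2 (C := C) (by omega) c2))
      omega
    · have := S.index_ne_one hL
      omega
  change charDegree ω + _ = p at a4
  obtain ⟨lam, hl⟩ := H5.exists_monoidHom_of_degree_one (H5.isCharacter_of_isIrr θ.2)
    (by rw [cast_degree_irr, a3, Nat.cast_one])
  obtain ⟨θ, hθ⟩ := θ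
  obtain rfl : θ = _ := hl
  obtain ⟨n, b1, b2⟩ := H34.blM_neg a2 B hY a1
  obtain rfl : n = 0 := by
    rw [show charDegree _ + _ = p from a4] at b1
    simpa [mul_add, hp.out.ne_zero] using b1
  have b3 : ∀ c, m c ≤ 1 := fun c => by
    have := (hm c).symm.trans (b2 c)
    split_ifs at this <;> norm_cast at this <;> omega
  obtain ⟨t, ht⟩ := S.index_dvd_pred
  have := b3 0
  refine ⟨fun c _ => b3 c, ?_⟩
  rcases t with _ | _ | t <;> [omega; omega; (simp only [mul_add] at ht; omega)]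

end Klem

open Klem

variable {G : Type*} [Group G] [Finite G] {p : ℕ} [Fact p.Prime] {χ : G → ℂ} {K : Subgroup G}
  {x : G}

/-- the product map of `K` and a commuting cyclic subgroup -/
def Klem.pr {y : G} (hy : ∀ k ∈ K, Commute y k) : K × zpowers y →* G :=
  K.subtype.noncommCoprod (zpowers y).subtype fun k ⟨_, n, rfl⟩ => ((hy k k.2).zpow_left n).symm

theorem Klem.cen {y : G} (z : zpowers y) : ((1, z) : K × zpowers y) ∈ center (K × zpowers y) :=
  mem_center_iff.mpr fun g => Prod.ext (by simp) (IsMulCommutative.is_comm.comm _ _)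

theorem Klem.setup (h : Kd p K x) : ∃ S : Setup K p, S.x = ⟨x, h.mem⟩ :=
  exists_setup (by rw [orderOf_mk, h.ord]) h.sq

theorem mem_center_of_irr (hχ : IsCharacter G χ) (hf : Fa χ)
    (hK : IsIrrCharacter K fun k => χ k) {y : G} (hy : ∀ k ∈ K, Commute y k) :
    y ∈ center G := by
  have h := H5.norm_apply_of_mem_center (H30.isIrr_of_comp (H5.isCharacter_comp hχ (pr hy))
    (MonoidHom.inl _ _) (by simpa [pr] using hK)) (cen ⟨y, mem_zpowers y⟩)
  exact mem_center_of_norm hχ hf (by simpa [pr] using h)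

theorem Kd.not_normal (h : Kd p K x) : Nat.card (Sylow p K) ≠ 1 :=
  let ⟨S, _⟩ := setup h
  S.card_sylow_ne_one' h.perf

theorem klem (hχ : IsCharacter G χ) (hf : Fa χ) (hd : charDegree χ + 1 < p) (h : Kd p K x) :
    ∃ (ω : K → ℂ) (u : ℕ), IsIrrCharacter K ω ∧ (∀ k : K, χ k = ω k + u) ∧
      2 ≤ charDegree ω ∧ p - 1 ≤ 2 * charDegree ω := by
  classical
  have := Fintype.ofFinite K
  obtain ⟨S, hS⟩ := setup h
  have hg := fun {ψ} => deg_ge S h.perf (hS ▸ h.gen) (ψ := ψ)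
  have key : ∀ {η : K → ℂ}, IsCharacter K η → (∀ ψ, IsIrrCharacter K ψ → (ψ ≠ fun _ => 1) →
      classInner η ψ = 0) → ∃ u : ℕ, ∀ k, η k = u := fun {η} h1 h2 => by
    obtain ⟨u, hu⟩ := H5.exists_nat_classInner h1 H5.isCharacter_one
    refine ⟨u, fun k => ?_⟩
    rw [H5.isCharacter_eq_sum h1, Finset.sum_eq_single (triv K) (fun ψ _ e => by
      rw [h2 ψ ψ.2 fun e' => e (Subtype.ext e'), zero_smul]) (by simp)]
    exact (mul_one _).trans hu
  have hr := H5.isCharacter_restrict hχ K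
  obtain ⟨ω, h1, h2, h3⟩ : ∃ ω, IsIrrCharacter K ω ∧ (ω ≠ fun _ => 1) ∧
      classInner (fun k : K => χ k) ω ≠ 0 := by
    by_contra! e
    obtain ⟨u, hu⟩ := key hr e
    exact (Fact.out : p.Prime).ne_one (by
      rw [← h.ord, hf x ((hu ⟨x, h.mem⟩).trans (hu 1).symm), orderOf_one])
  have h4 := H5.isCharacter_sub_of_constituent hr h1 h3
  obtain ⟨u, hu⟩ := key h4 fun ψ e1 e2 => by
    by_contra e3
    have a1 := sum_degree_le h4 {⟨ψ, e1⟩} (by simpa using e3)
    have a2 : charDegree ((fun k : K => χ k) - ω) + charDegree ω = charDegree χ := by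
      apply Nat.cast_injective (R := ℂ)
      rw [Nat.cast_add, ← cast_degree h4, ← cast_degree (H5.isCharacter_of_isIrr h1),
        ← cast_degree hχ]
      simp
    have a3 := (hg e1 e2).2
    have a4 := (hg h1 h2).2
    rw [Finset.sum_singleton] at a1
    change charDegree ψ ≤ _ at a1
    omega
  exact ⟨ω, u, h1, fun k => by rw [← hu k]; simp, hg h1 h2⟩

theorem eig (hχ : IsCharacter G χ) (hf : Fa χ) (hd : charDegree χ + 1 < p) (h : Kd p K x) :
    Eig p χ x := by
  classical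
  have := Fintype.ofFinite K
  obtain ⟨S, hS⟩ := setup h
  obtain ⟨ω, u, h1, h2, h3, h4⟩ := klem hχ hf hd h
  have hc := H5.isCharacter_of_isIrr h1
  obtain ⟨m, hm, hs⟩ := H34.exists_blM S hc
  have h5 : charDegree χ = charDegree ω + u := Nat.cast_injective (R := ℂ) (by
    rw [Nat.cast_add, ← cast_degree hχ, ← cast_degree hc]
    exact h2 1)
  obtain ⟨h6, h7⟩ := mult_le S h.perf h1 (fun k e => Subtype.ext (hf k (by
    rw [h2, e]; exact (h2 1).symm))) (by omega) h3 h4 hm hs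
  have h8 : ∀ f : ZMod p → ℂ, ∑ c, m c * f c = m 0 * f 0 +
      ∑ c ∈ Finset.univ.filter (fun c => c ≠ 0 ∧ m c = 1), f c := fun f => by
    rw [← Finset.add_sum_erase _ _ (Finset.mem_univ 0), Finset.sum_filter, ← Finset.add_sum_erase _
      (fun c => if c ≠ 0 ∧ m c = 1 then f c else 0) (Finset.mem_univ 0), if_neg (by simp), zero_add]
    congr 1
    refine Finset.sum_congr rfl fun c hc => ?_
    have e := Finset.ne_of_mem_erase hc
    have := h6 c e
    rcases (by omega : m c = 0 ∨ m c = 1) with e' | e' <;> simp [e, e']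
  refine ⟨Finset.univ.filter (fun c => c ≠ 0 ∧ m c = 1), m 0 + u, by simp, ?_, fun i => ?_⟩
  · have e := h8 fun _ => 1
    simp only [mul_one, Finset.sum_const, nsmul_eq_mul] at e
    generalize Finset.card _ = t at e ⊢
    norm_cast at e
    omega
  · have e := H34.blM_inv S ω i
    simp only [hm] at e
    rw [h8, Setup.xp, hS] at e
    rw [show χ (x ^ i.val) = _ from h2 (⟨x, h.mem⟩ ^ i.val), ← e]
    simp
    ring

/-- `ψ` and `ρ` are characters of `K ⊔ zpowers y` -/
theorem dec' (hχ : IsCharacter G χ) (hf : Fa χ) (hd : charDegree χ + 1 < p) (h : Kd p K x) {y : G}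
    (hy : ∀ k ∈ K, Commute y k) : ∃ (ω : K → ℂ) (β : ℂ) (ρ : zpowers y → ℂ),
      IsIrrCharacter K ω ∧ 2 ≤ charDegree ω ∧ β ^ orderOf y = 1 ∧ IsCharacter (zpowers y) ρ ∧
      ∀ (k : K) (n : ℕ), χ (k * y ^ n) = β ^ n * ω k + ρ ⟨y ^ n, npow_mem_zpowers y n⟩ := by
  classical
  have := Fintype.ofFinite K
  have := Fintype.ofFinite (zpowers y)
  obtain ⟨ω, u, h1, h2, h3, -⟩ := klem hχ hf hd h
  have hL := H5.isCharacter_comp hχ (pr hy)
  obtain ⟨ψ, e1, e2⟩ : ∃ ψ : IrrCharacter (K × zpowers y), classInner (fun g => χ (pr hy g)) ψ ≠ 0 ∧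
      classInner (fun k : K => (ψ : K × zpowers y → ℂ) (k, 1)) ω ≠ 0 := by
    by_contra! e
    have a1 : classInner (ω + (u : ℂ) • fun _ => 1) ω = 0 := by
      rw [show (ω + (u : ℂ) • fun _ => 1) = ∑ ψ : IrrCharacter (K × zpowers y),
        classInner (fun g => χ (pr hy g)) ψ • fun k : K => (ψ : K × zpowers y → ℂ) (k, 1) by
          ext k
          have := congrFun (H5.isCharacter_eq_sum hL) (k, 1)
          simp only [Finset.sum_apply, Pi.smul_apply] at this ⊢
          rw [← this]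
          simp [pr, h2], H5.classInner_sum_left]
      refine Finset.sum_eq_zero fun ψ _ => ?_
      rw [H5.classInner_smul_left]
      exact mul_eq_zero.mpr (or_iff_not_imp_left.mpr (e ψ))
    rw [H5.classInner_add_left, H5.classInner_smul_left, H5.classInner_irr_self h1,
      H5.classInner_irr_ne H5.isIrrCharacter_one h1 fun a => by
        rw [← a, show charDegree (fun _ : K => (1 : ℂ)) = 1 from degree_triv] at h3
        omega] at a1
    simp at a1
  have e3 : (fun k : K => (ψ : K × zpowers y → ℂ) (k, 1)) = ω :=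
    H5.eq_of_classInner_irr_ne_zero (H5.isIrrCharacter_comp (isIrr_restrict_of_center ψ.2
      (MonoidHom.inl K (zpowers y)).range fun g => ⟨(g.1, 1), ⟨g.1, rfl⟩, (1, g.2), cen _, by simp⟩)
      _ (MonoidHom.rangeRestrict_surjective _)) h1 e2
  have e4 := H5.isCharacter_sub_of_constituent hL ψ.2 e1
  obtain ⟨β, -, b1, b2⟩ := H5.exists_apply_mul_eq_of_norm_eq (H5.isCharacter_of_isIrr ψ.2)
    (H5.norm_apply_of_mem_center ψ.2 (cen ⟨y, mem_zpowers y⟩))
  have e5 : ∀ k : K, χ k - (ψ : K × zpowers y → ℂ) (k, 1) = u := fun k => by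
    rw [h2, ← e3]
    simp
  refine ⟨ω, β, _, h1, h3, ?_, H5.isCharacter_comp e4 (MonoidHom.inr _ _), fun k n => ?_⟩
  · rwa [Prod.orderOf_mk, orderOf_one, orderOf_mk, Nat.lcm_one_left] at b1
  have e6 := H5.apply_mul_of_apply_eq_degree e4 (x := (k, 1))
    (by simpa [pr, Prod.one_eq_mk] using (e5 k).trans (e5 1).symm) (1, ⟨y ^ n, npow_mem_zpowers y n⟩)
  have e7 : ∀ n : ℕ, (ψ : K × zpowers y → ℂ) (k, ⟨y, mem_zpowers y⟩ ^ n) = β ^ n * ω k := fun n => by
    induction n with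
    | zero => simpa using congrFun e3 k
    | succ n ih => rw [pow_succ', pow_succ', mul_assoc, ← ih, ← b2, Prod.mk_mul_mk, one_mul]
  rw [← e7, MonoidHom.inr_apply, ← e6]
  simp [pr]

theorem dec (hχ : IsCharacter G χ) (hf : Fa χ) (hd : charDegree χ + 1 < p) (h : Kd p K x) {y : G}
    (hy : ∀ k ∈ K, Commute y k) : ∃ β : ℂ, ∀ k ∈ K, χ (k * y) - χ y = β * (χ k - χ 1) := by
  obtain ⟨ω, β, ρ, -, -, -, -, h1⟩ := dec' hχ hf hd h hy
  refine ⟨β, fun k hk => ?_⟩
  have e1 := h1 ⟨k, hk⟩ 1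
  have e2 := h1 1 1
  have e3 := h1 ⟨k, hk⟩ 0
  have e4 := h1 1 0
  simp only [pow_one, pow_zero, mul_one, one_mul, OneMemClass.coe_one] at e1 e2 e3 e4
  rw [e1, e2, e3, e4]
  ring

end Cfsg.Agent.L16
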