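import Cfsg.Agent.L16.Red
import Cfsg.Agent.L16.BaseC
import Cfsg.Agent.L16.C19
import Cfsg.Agent.L16.C7
import Cfsg.Agent.L16.C5

set_option autoImplicit false
set_option linter.unusedSectionVars false

namespace Cfsg.Agent.L16

open Subgroup Cfsg Cfsg.Agent.H35

theorem sl_congr {F F' : Type} [Field F] [Field F'] (f : F ≃+* F') :
    Nonempty (Matrix.SpecialLinearGroup (Fin 2) F ≃* Matrix.SpecialLinearGroup (Fin 2) F') :=
  ⟨MonoidHom.toMulEquiv (Matrix.SpecialLinearGroup.map f.toRingHom)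
    (Matrix.SpecialLinearGroup.map f.symm.toRingHom) (by ext a i j; simp) (by ext a i j; simp)⟩

theorem big_cases {p d e : ℕ} (hp : p.Prime) (h1 : d + e = p) (h2 : d < 27) (h3 : 3 ≤ e)
    (h4 : e * (e + 3) ≤ p - 1) (h5 : e ∣ p - 1) :
    p = 19 ∧ d = 16 ∧ e = 3 ∨ p = 29 ∧ d = 25 ∧ e = 4 := by
  have h6 : e ≤ 4 := by
    by_contra h
    have := Nat.mul_le_mul_left e (show 8 ≤ e + 3 by omega)
    omega
  have h7 : p ≠ 22 ∧ p ≠ 25 ∧ p ≠ 28 := by
    refine ⟨?_, ?_, ?_⟩ <;> rintro rfl <;> norm_num at hp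
  interval_cases e <;> omega

theorem partC {G : Type*} [Group G] [Finite G] {p : ℕ} [Fact p.Prime] {χ : G → ℂ}
    (hχ : IsIrrCharacter G χ) (hf : Fa χ) (h27 : charDegree χ < 27) (hd : charDegree χ + 1 < p)
    (P : Sylow p G) (hP : Nat.card P = p) (hn : ¬ (P : Subgroup G).Normal) :
    Concl p (charDegree χ) G := by
  have hp : p.Prime := Fact.out
  have hc := H5.isCharacter_of_isIrr hχ
  have := Fintype.ofFinite G
  obtain ⟨S, hn', -⟩ := H34.bl_setup P hP hn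
  by_cases h1 : 2 * charDegree χ ≤ p
  · exact Or.inl ⟨S.psl2_of_small_degree hc hf h1 hn', Or.inr (S.small_degree hc hf h1 hn').2.2.1⟩
  by_cases h2 : charDegree χ + 2 = p ∧ 5 < p
  · obtain ⟨a, F, _, _, a1, a2, ⟨f⟩⟩ := S.prod_of_pm2 hχ hf h2.1 h2.2 hn'
    have a3 : a < 5 := by
      by_contra h
      have := Nat.pow_le_pow_right two_pos (not_lt.mp h)
      omega
    have a4 : p ≠ 9 := by rintro rfl; norm_num at hp
    obtain rfl : a = 4 := by interval_cases a <;> omega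
    have := Fintype.ofFinite (GaloisField 2 4)
    obtain ⟨g⟩ := sl_congr (FiniteField.ringEquivOfCardEq (K := F) (K' := GaloisField 2 4) (by
      rw [a2, ← Nat.card_eq_fintype_card, GaloisField.card 2 4 (by norm_num)]))
    let _ : CommGroup (center G) :=
      { (inferInstance : Group (center G)) with
        mul_comm := fun a b => Subtype.ext (mem_center_iff.mp b.2 a) }
    exact Or.inr (Or.inl ⟨by omega, by omega, Shrink.{0} (center G), inferInstance, inferInstance,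
      ⟨f.trans (g.prodCongr (Shrink.mulEquiv.{0} (α := center G)).symm)⟩⟩)
  obtain ⟨H, T, ξ, e, hC, hnH, hZ⟩ := red S hχ hf hd (by omega) hn'
  obtain ⟨φ⟩ := quot_iso hZ
  have := Fintype.ofFinite H
  have := Fintype.ofFinite (H ⧸ center H)
  obtain ⟨T', B, Θ, Θ', hB⟩ := hC.bd
  have h3 := hC.sum
  have h4 := hC.two
  by_cases h7 : 7 < p
  · rcases H34.bl_main T ξ.2 hC.faith (hC.deg ▸ hd) h7 hnH with ⟨⟨f⟩, a, -⟩ | ⟨-, a | ⟨a, b⟩⟩
    · exact Or.inl ⟨⟨φ.trans f⟩, hC.deg ▸ a⟩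
    · rw [hC.idx] at a; omega
    rw [hC.idx] at a
    rcases big_cases hp h3 h27 (by omega) a (hC.idx ▸ T.index_dvd_pred) with
      ⟨rfl, c, rfl⟩ | ⟨rfl, c, rfl⟩ <;> rw [c] at hB hC
    · exact (c19 hB).elim
    · refine (b (Nat.odd_iff.mpr (by_contra fun h => ?_))).elim
      obtain ⟨z, hz⟩ := exists_prime_orderOf_dvd_card' (G := center H) 2 (by omega)
      have := orderOf_dvd_of_pow_eq_one (hC.pow_cen z.2)
      rw [orderOf_coe, hz] at this
      omega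
  have h6 : p ≠ 6 := by rintro rfl; norm_num at hp
  obtain ⟨rfl, c, rfl⟩ | ⟨rfl, c, rfl⟩ : p = 5 ∧ charDegree χ = 3 ∧ e = 2 ∨
      p = 7 ∧ charDegree χ = 4 ∧ e = 3 := by omega
  · rw [c] at hB ⊢
    rcases c5 hB with ⟨⟨f⟩⟩ | ⟨⟨f⟩⟩
    · exact Or.inl ⟨⟨φ.trans f⟩, Or.inl rfl⟩
    · exact Or.inr (Or.inr (Or.inr ⟨rfl, rfl, ⟨φ.trans f⟩⟩))
  · rw [c] at hB ⊢
    rcases c7 hB with ⟨⟨f⟩⟩ | ⟨⟨f⟩⟩
    · exact Or.inl ⟨⟨φ.trans f⟩, Or.inl rfl⟩
    · exact Or.inr (Or.inr (Or.inl ⟨rfl, rfl, ⟨φ.trans f⟩⟩))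

end Cfsg.Agent.L16
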