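import Cfsg.Agent.L16.RInd
import Cfsg.Agent.L16.PartC
import Cfsg.Agent.H6.Clifford
import Cfsg.Agent.H88.Deg
import Cfsg.Agent.H31.Linear
import Cfsg.Agent.H3.Transfer2

/-! notes/L16.md, section Main. -/

set_option autoImplicit false
set_option linter.unusedSectionVars false

namespace Cfsg.Agent.L16

open Subgroup Cfsg Cfsg.Agent.H35

namespace MainAux

variable {G : Type*} [Group G] [Finite G] {p : ℕ} [Fact p.Prime] {χ : G → ℂ}

theorem irr_res (hχ : IsIrrCharacter G χ) (hf : Fa χ) (hd : charDegree χ + 1 < p)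
    {K : Subgroup G} {x : G} (h : Kd p K x) (hK : K.Normal) :
    IsIrrCharacter K fun k => χ k := by
  have := Fintype.ofFinite G
  have := Fintype.ofFinite K
  obtain ⟨ω, u, hω, e, -⟩ := klem (H5.isCharacter_of_isIrr hχ) hf hd h
  rcases Nat.eq_zero_or_pos u with rfl | hu
  · have : (fun k : K => χ k) = ω := funext fun k => by simpa using e k
    rwa [this]
  exfalso
  have e' : (fun k : K => χ k) = ω + u • fun _ => (1 : ℂ) := funext fun k => by simpa using e k
  obtain ⟨n, hn⟩ := H5.exists_nat_classInner (H5.isCharacter_of_isIrr hω) H5.isCharacter_one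
  have h1 : classInner (fun k : K => χ k) (fun _ => 1) ≠ 0 := by
    rw [e', H5.classInner_add_left, H5.classInner_nsmul_left, hn,
      H5.classInner_irr_self H5.isIrrCharacter_one, mul_one]
    exact_mod_cast (by omega : n + u ≠ 0)
  have h2 := H6.res_eq_smul_of_invariant K hχ H5.isIrrCharacter_one h1 fun _ => rfl
  have h3 : x = 1 := hf x ((congrFun h2 ⟨x, h.mem⟩).trans (congrFun h2 1).symm)
  have := h.ord
  rw [h3, orderOf_one] at this
  exact (Fact.out : p.Prime).one_lt.ne this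

theorem split (P : Sylow p G) {Q : Subgroup G} (hQ : Q ≤ P) (hZ : Q ≤ center G)
    (hab : ∀ a ∈ (P : Subgroup G), ∀ b ∈ (P : Subgroup G), a * b = b * a) {x : G}
    (hx : x ∈ commutator G) (hP : ∀ a ∈ (P : Subgroup G), ∃ q ∈ Q, ∃ i : ℕ, a = x ^ i * q) :
    ∃ H : Subgroup G, x ∈ H ∧ H ⊓ Q = ⊥ ∧ ∀ g : G, ∃ a ∈ H, ∃ z ∈ Q, g = a * z := by
  let f : G →* Abelianization G := (powMonoidHom (P : Subgroup G).index).comp Abelianization.of
  have hf : ∀ g : G, g ∈ f.ker ↔ g ^ (P : Subgroup G).index ∈ commutator G := fun g => by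
    rw [← Abelianization.ker_of, MonoidHom.mem_ker, MonoidHom.mem_ker, map_pow]
    rfl
  have cop : (Nat.card P).Coprime (P : Subgroup G).index := P.card_coprime_index
  have hxH : x ∈ f.ker := (hf x).2 (pow_mem hx _)
  refine ⟨f.ker, hxH, eq_bot_iff.2 fun q hq => ?_, fun g => ?_⟩
  · have h1 : q ^ (P : Subgroup G).index ∈ ⁅(P : Subgroup G), (P : Subgroup G)⁆ :=
      H3.center_inf_commutator_inf_sylow_le P
        ⟨⟨pow_mem (hZ hq.2) _, (hf q).1 hq.1⟩, pow_mem (hQ hq.2) _⟩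
    rw [commutator_eq_bot_iff_le_centralizer.2 fun a ha b hb => hab b hb a ha, mem_bot] at h1
    have h2 : q ^ Nat.card P = 1 :=
      congrArg Subtype.val (pow_card_eq_one' (x := (⟨q, hQ hq.2⟩ : (P : Subgroup G))))
    have := pow_gcd_eq_one.2 ⟨h2, h1⟩
    rwa [cop, pow_one] at this
  · have nQ : Q.Normal := ⟨fun q hq g => by
      rwa [mem_center_iff.1 (hZ hq) g, mul_inv_cancel_right]⟩
    have hle : (P : Subgroup G) ≤ f.ker ⊔ Q := fun a ha => by
      obtain ⟨q, hq, i, rfl⟩ := hP a ha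
      exact mul_mem_sup (pow_mem hxH i) hq
    have h1 : g ^ (P : Subgroup G).index ∈ f.ker ⊔ Q := by
      obtain ⟨k, hk⟩ := index_dvd_of_le hle
      rw [hk, pow_mul]
      exact pow_mem (pow_index_mem _ g) k
    have h2 : g ^ Nat.card P ∈ f.ker ⊔ Q := mem_sup_left ((hf _).2 (by
      rw [← pow_mul, card_mul_index, pow_card_eq_one']
      exact one_mem _))
    have h3 : g ∈ f.ker ⊔ Q := by
      rw [← QuotientGroup.eq_one_iff, QuotientGroup.mk_pow] at h1 h2
      have := pow_gcd_eq_one.2 ⟨h2, h1⟩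
      rwa [cop, pow_one, QuotientGroup.eq_one_iff] at this
    obtain ⟨a, ha, z, hz, e⟩ := mem_sup_of_normal_right.1 h3
    exact ⟨a, ha, z, hz, e.symm⟩

end MainAux

open MainAux in
theorem main {G : Type*} [Group G] [Finite G] {p : ℕ} [Fact p.Prime] {χ : G → ℂ}
    (hχ : IsIrrCharacter G χ) (hf : Fa χ) (h27 : charDegree χ < 27) (hd : charDegree χ + 1 < p)
    (P : Sylow p G) (hn : ¬ (P : Subgroup G).Normal) : Concl p (charDegree χ) G := by
  have hp : p.Prime := Fact.out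
  have hc := H5.isCharacter_of_isIrr hχ
  have F := feit hc hf hd
  obtain ⟨K, x, kd, nK, xP, cq, -, dec⟩ := st hc hf hd F P hn
  have hZ : pCore p G ≤ center G := fun q hq =>
    mem_center_of_irr hc hf (irr_res hχ hf hd kd nK) (cq q hq)
  have hQ : pCore p G ≤ P := H44.pCore_isPGroup.le_sylow_of_normal P
  have lin := H31.lin_of_faithful hc hf (H88.charDegree_cast hc).symm le_rfl
  have hx : x ∈ commutator G := by
    have : (⟨x, kd.mem⟩ : K) ∈ commutator K := kd.perf ▸ mem_top _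
    exact commutator_mono le_top le_top ((map_subtype_commutator K).le (mem_map_of_mem _ this))
  obtain ⟨H, xH, hi, hs⟩ := split P hQ hZ
    (fun a ha b hb => lin.comm_of_isPGroup hp (by omega) P.isPGroup' ha hb) hx dec
  have hsq : ¬ p ^ 2 ∣ Nat.card H := fun k => F (k.trans (card_dvd_of_injective
    ((QuotientGroup.mk' (pCore p G)).comp H.subtype) ((injective_iff_map_eq_one _).2 fun a ha =>
      Subtype.ext (mem_bot.1 (hi ▸ mem_inf.2 ⟨a.2, (QuotientGroup.eq_one_iff _).1 ha⟩)))))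
  have cz : Nat.card (zpowers (⟨x, xH⟩ : H)) = p := by
    rw [Nat.card_zpowers, ← orderOf_coe, kd.ord]
  obtain ⟨R, hR⟩ := (IsPGroup.of_card (cz.trans (pow_one p).symm)).exists_le_sylow
  have cR : Nat.card R = p := by
    obtain ⟨k, hk⟩ := R.isPGroup'.exists_card_eq
    have h1 : p ^ 1 ∣ p ^ k := by
      rw [pow_one, ← hk]; exact (dvd_of_eq cz.symm).trans (card_dvd_of_le hR)
    have h2 : ¬ p ^ 2 ∣ p ^ k := fun c => hsq (c.trans (hk ▸ card_subgroup_dvd_card _))
    rw [Nat.pow_dvd_pow_iff_le_right hp.one_lt] at h1 h2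
    rw [hk, show k = 1 by omega, pow_one]
  have eR : zpowers (⟨x, xH⟩ : H) = R := eq_of_le_of_card_ge hR (cR.trans cz.symm).le
  refine Concl.of_prod hZ hi hs (partC (isIrr_restrict_of_center hχ H fun g => ?_)
    (fun a ha => Subtype.ext (hf a ha)) h27 hd R cR fun nR => hn ⟨fun s hs' g => ?_⟩)
  · obtain ⟨a, ha, z, hz, e⟩ := hs g
    exact ⟨a, ha, z, hZ hz, e⟩
  · obtain ⟨q, hq, i, rfl⟩ := dec s hs'
    obtain ⟨a, ha, z, hz, rfl⟩ := hs g
    have h1 : a * x * a⁻¹ ∈ (P : Subgroup G) := by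
      obtain ⟨j, hj⟩ := eR.ge (nR.conj_mem _ (hR (mem_zpowers _)) ⟨a, ha⟩)
      have hj : x ^ j = a * x * a⁻¹ := congrArg Subtype.val hj
      exact hj ▸ zpow_mem xP j
    have : a * z * (x ^ i * q) * (a * z)⁻¹ = (a * x * a⁻¹) ^ i * q := by
      rw [mul_assoc a z, ← mem_center_iff.1 (hZ hz), conj_pow, mul_assoc _ a⁻¹,
        mem_center_iff.1 (hZ hq) a⁻¹]
      group
    rw [this]
    exact mul_mem (pow_mem h1 i) (hQ hq)

end Cfsg.Agent.L16
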