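import Cfsg.Agent.L16.Defs
import Cfsg.Agent.H6.Clifford
import Cfsg.Agent.H88.Deg

set_option autoImplicit false
set_option linter.unusedSectionVars false

namespace Cfsg.Agent.L16

open Subgroup Cfsg Cfsg.Agent.H35

namespace Wt

section
variable {P : Type*} [Group P] [Fintype P] {θ : P → ℂ}

/-- a linear character as an irreducible character -/
def ir (l : P →* ℂˣ) : IrrCharacter P := ⟨fun a => (l a : ℂ), H5.isIrrCharacter_monoidHom l⟩

theorem ir_inj : Function.Injective (ir : (P →* ℂˣ) → IrrCharacter P) := fun l l' e =>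
  MonoidHom.ext fun a => Units.ext (congrFun (congrArg Subtype.val e) a)

theorem deg_ir (l : P →* ℂˣ) : charDegree (ir l : P → ℂ) = 1 :=
  H88.charDegree_eq_of_eq (by simp [ir])

theorem fin : Finite (P →* ℂˣ) := Finite.of_injective _ ir_inj

theorem ncard_le (hθ : IsCharacter P θ) {S : Set (P →* ℂˣ)}
    (hS : ∀ l ∈ S, classInner θ (fun a => (l a : ℂ)) ≠ 0) : S.ncard ≤ charDegree θ := by
  classical
  haveI := fin (P := P)
  have := sum_degree_le hθ (S.toFinite.toFinset.image ir) (by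
    intro ψ hψ
    obtain ⟨l, hl, rfl⟩ := Finset.mem_image.1 hψ
    exact hS l (by simpa using hl))
  rw [Finset.sum_image fun a _ b _ e => ir_inj e] at this
  simpa [deg_ir, Set.ncard_eq_toFinset_card S S.toFinite] using this

theorem sub_sum (hθ : IsCharacter P θ) (T : Finset (P →* ℂˣ))
    (hT : ∀ l ∈ T, classInner θ (fun a => (l a : ℂ)) ≠ 0) :
    IsCharacter P (θ - ∑ l ∈ T, fun a => (l a : ℂ)) := by
  classical
  induction T using Finset.induction_on with
  | empty => simpa using hθ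
  | insert l T hl ih =>
    rw [Finset.sum_insert hl, add_comm, ← sub_sub]
    refine H5.isCharacter_sub_of_constituent (ih fun l' h' => hT l' (Finset.mem_insert_of_mem h'))
      (H5.isIrrCharacter_monoidHom l) ?_
    rw [H5.classInner_sub_left, H5.classInner_sum_left, Finset.sum_eq_zero fun l' h' => by
      rw [H5.classInner_monoidHom, if_neg fun e : l' = l => hl (e ▸ h')], sub_zero]
    exact hT l (Finset.mem_insert_self l T)

theorem exists_m [Fintype (P →* ℂˣ)] (hθ : IsCharacter P θ) (hab : ∀ a b : P, a * b = b * a) :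
    ∃ m : (P →* ℂˣ) → ℕ, (∀ l, classInner θ (fun a => (l a : ℂ)) = m l) ∧
      ∀ a, θ a = ∑ l, (m l : ℂ) * l a := by
  obtain ⟨m, h1, -, h2⟩ := H88.exists_nat_mult hθ
  have bij : Function.Bijective (ir : (P →* ℂˣ) → IrrCharacter P) := ⟨ir_inj, fun ψ => by
    obtain ⟨l, hl⟩ := H5.exists_monoidHom_of_comm hab ψ.2
    exact ⟨l, Subtype.ext hl.symm⟩⟩
  exact ⟨fun l => m (ir l), fun l => h1 (ir l), fun a => by rw [h2, ← bij.sum_comp]; rfl⟩

theorem ker_eq {p : ℕ} (hp : p.Prime) {A : Subgroup P} (hA : A.index = p) {l l' : P →* ℂˣ}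
    (hne : l ≠ l') (h : ∀ a ∈ A, l a = l' a) (a : P) : a ∈ A ↔ l a = l' a := by
  have le : A ≤ l.eqLocus l' := h
  refine ⟨h a, fun e => ?_⟩
  have e1 := relIndex_mul_index le
  rcases (Nat.dvd_prime hp).1 (hA ▸ index_dvd_of_le le) with k | k
  · exact (hne (MonoidHom.ext fun b => (index_eq_one.1 k).ge (mem_top b))).elim
  · rw [k, hA] at e1
    exact relIndex_eq_one.1 (Nat.eq_of_mul_eq_mul_right hp.pos (e1.trans (one_mul p).symm)) e

end

variable {p : ℕ} [hp : Fact p.Prime]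

theorem exists_ech {z : ℂ} (hz : z ^ p = 1) : ∃ c, z = ech p c := by
  haveI : NeZero p := ⟨hp.out.ne_zero⟩
  have h : IsPrimitiveRoot (ech p 1) p := (IsPrimitiveRoot.iff_orderOf).2 <|
    orderOf_eq_prime (ech_pow_prime 1) fun e =>
      one_ne_zero (ZMod.injective_stdAddChar (e.trans (ech p).map_zero_eq_one.symm))
  obtain ⟨i, -, rfl⟩ := h.eq_pow_of_pow_eq_one hz
  exact ⟨_, ech_pow 1 i⟩

theorem four {L : Type*} [Fintype L] (w : L → ℂ) (c : L → ZMod p) (g : ZMod p → ℂ)
    (h : ∀ i, ∑ l, w l * ech p (c l * i) = ∑ b, g b * ech p (b * i)) (b : ZMod p) :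
    ∑ l ∈ Finset.univ.filter (c · = b), w l = g b := by
  rw [← fourier_coeff g b, ← fourier_coeff (fun b => ∑ l ∈ Finset.univ.filter (c · = b), w l) b]
  simp only [← h]
  congr 1
  refine Finset.sum_congr rfl fun i _ => ?_
  congr 1
  rw [← Finset.sum_fiberwise Finset.univ c]
  refine Finset.sum_congr rfl fun b _ => ?_
  rw [Finset.sum_mul]
  exact Finset.sum_congr rfl fun l hl => by rw [(Finset.mem_filter.1 hl).2]

variable {G : Type*} [Group G] [Finite G] {χ : G → ℂ} {P : Subgroup G} [Fintype P] {x : P}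

theorem wt_comp (hχ : IsCharacter G χ) {g : G} (hg : g ∈ normalizer (P : Set G)) (l : P →* ℂˣ) :
    classInner (fun a : P => χ a) (fun a => (l (P.normalizerMonoidHom ⟨g, hg⟩ a) : ℂ)) =
      classInner (fun a : P => χ a) (fun a => (l a : ℂ)) := by
  have e : (fun a : P => χ a) = fun a => χ (P.normalizerMonoidHom ⟨g, hg⟩ a) := by
    funext a
    change χ a = χ (g * a * g⁻¹)
    rw [H5.isCharacter_mul_comm hχ, inv_mul_cancel_left]
  exact (congrArg (classInner · _) e).trans
    (H5.classInner_comp_equiv (P.normalizerMonoidHom ⟨g, hg⟩) (fun a : P => χ a) fun a => (l a : ℂ))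

theorem exists_c (hx : orderOf (x : G) = p) : ∃ c : (P →* ℂˣ) → ZMod p,
    (∀ l, (l x : ℂ) = ech p (c l)) ∧ (∀ l, c l = 0 ↔ l x = 1) ∧ ∀ l l', l x = l' x → c l = c l' := by
  have h : ∀ l : P →* ℂˣ, ∃ c, (l x : ℂ) = ech p c := fun l => exists_ech (by
    rw [← Units.val_pow_eq_pow_val, ← map_pow, ← hx, orderOf_coe, pow_orderOf_eq_one]; simp)
  choose c hc using h
  refine ⟨c, hc, fun l => ⟨fun e => Units.ext ?_, fun e => ZMod.injective_stdAddChar ?_⟩,
    fun l l' e => ZMod.injective_stdAddChar ?_⟩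
  · rw [hc, e]; simp
  · rw [← hc, e]; simp
  · rw [← hc, ← hc, e]

theorem eig_wts (hχ : IsCharacter G χ) (hab : ∀ a ∈ P, ∀ b ∈ P, a * b = b * a)
    (hx : orderOf (x : G) = p) (hE : Eig p χ (x : G)) :
    (∀ l ∈ wts χ P x, ∀ l' ∈ wts χ P x, l x = l' x → l = l') ∧ p - 1 ≤ 2 * (wts χ P x).ncard ∧
    (2 * charDegree χ ≤ p + 1 → ∀ l l' : P →* ℂˣ, classInner (fun a : P => χ a) (fun a => (l a : ℂ)) ≠ 0 →
      classInner (fun a : P => χ a) (fun a => (l' a : ℂ)) ≠ 0 → l x = l' x → l = l') := by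
  classical
  haveI := fin (P := P)
  haveI := Fintype.ofFinite (P →* ℂˣ)
  obtain ⟨m, m1, m2⟩ := exists_m (H5.isCharacter_restrict hχ P) fun a b => Subtype.ext (hab a a.2 b b.2)
  obtain ⟨c, c1, c2, c3⟩ := exists_c hx
  obtain ⟨C, u, h0, h1, h2⟩ := hE
  have key : ∀ b, ∑ l ∈ Finset.univ.filter (c · = b), m l =
      (if b = 0 then u else 0) + if b ∈ C then 1 else 0 := fun b => by
    have := four (fun l => (m l : ℂ)) c (fun b => (if b = 0 then (u : ℂ) else 0) + if b ∈ C then 1 else 0)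
      (fun i => by
        have e := m2 (x ^ i.val)
        simp only [map_pow, Units.val_pow_eq_pow_val, c1, ech_pow, ZMod.natCast_zmod_val,
          SubmonoidClass.coe_pow, h2] at e
        rw [← e]
        simp [add_mul, Finset.sum_add_distrib, ite_mul]) b
    exact_mod_cast this
  have two : ∀ l l' : P →* ℂˣ, classInner (fun a : P => χ a) (fun a => (l a : ℂ)) ≠ 0 →
      classInner (fun a : P => χ a) (fun a => (l' a : ℂ)) ≠ 0 → l x = l' x → l ≠ l' → c l = 0 ∧ 2 ≤ u := by
    intro l l' e1 e2 e3 e4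
    rw [m1, Nat.cast_ne_zero] at e1 e2
    have e5 := Finset.sum_le_sum_of_subset (f := m) (s := {l, l'}) (t := Finset.univ.filter (c · = c l))
      (by simp [Finset.insert_subset_iff, c3 l l' e3])
    rw [Finset.sum_pair e4, key] at e5
    by_cases k : c l = 0
    · rw [k, if_pos rfl, if_neg h0] at e5; exact ⟨k, by omega⟩
    · rw [if_neg k] at e5; split_ifs at e5 <;> omega
  refine ⟨fun l hl l' hl' e => by_contra fun k => hl.2 ((c2 l).1 (two l l' hl.1 hl'.1 e k).1), ?_,
    fun hd l l' e1 e2 e3 => by_contra fun k => ?_⟩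
  · refine h1.trans (Nat.mul_le_mul_left 2 ?_)
    rw [← Set.ncard_coe_finset]
    refine le_trans (Set.ncard_le_ncard (fun b hb => ?_)) (Set.ncard_image_le (f := c))
    have e := key b
    rw [if_pos (show b ∈ C from hb)] at e
    obtain ⟨l, hl, e2⟩ := Finset.exists_ne_zero_of_sum_ne_zero (e.trans_ne (by omega))
    have e3 := (Finset.mem_filter.1 hl).2
    exact ⟨l, ⟨by rwa [m1, Nat.cast_ne_zero], fun k => h0 ((c2 l).2 k ▸ e3 ▸ hb)⟩, e3⟩
  · have e := h2 0
    simp only [ZMod.val_zero, pow_zero, mul_zero, AddChar.map_zero_eq_one, Finset.sum_const,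
      nsmul_eq_mul, mul_one, ← H88.charDegree_cast hχ] at e
    have e' : charDegree χ = u + C.card := by exact_mod_cast e
    have := (two l l' e1 e2 e3 k).2
    omega

end Wt

open Wt

variable {G : Type*} [Group G] [Finite G] {p : ℕ} [Fact p.Prime] {χ : G → ℂ} {P : Subgroup G}
  [Fintype P] {x x' : P} {A A' : Subgroup G}

theorem Good.unique (hχ : IsCharacter G χ) (hd : charDegree χ + 1 < p)
    (hp : 7 ≤ p ∨ charDegree χ + 2 < p) (h : Good p χ P x A) (h' : Good p χ P x' A') :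
    A = A' := by
  haveI := fin (P := P)
  have k : ∀ {y : P} {B : Subgroup G}, Good p χ P y B → ∀ l ∈ wts χ P y, ∀ l' ∈ wts χ P y, l ≠ l' →
      ∀ a : P, (a : G) ∈ B ↔ l a = l' a := fun h l hl l' hl' e a =>
    ker_eq Fact.out h.idx e (h.agree l hl l' hl') a
  by_cases h2 : 1 < (wts χ P x ∩ wts χ P x').ncard
  · obtain ⟨l, l', hl, hl', e⟩ := (Set.one_lt_ncard_iff (Set.toFinite _)).1 h2
    ext a
    exact ⟨fun ha => (k h' l hl.2 l' hl'.2 e ⟨a, h.le ha⟩).2 ((k h l hl.1 l' hl'.1 e ⟨a, h.le ha⟩).1 ha),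
      fun ha => (k h l hl.1 l' hl'.1 e ⟨a, h'.le ha⟩).2 ((k h' l hl.2 l' hl'.2 e ⟨a, h'.le ha⟩).1 ha)⟩
  exfalso
  have c1 := Set.ncard_union_add_ncard_inter (wts χ P x) (wts χ P x')
  have c2 : (wts χ P x ∪ wts χ P x').ncard ≤ charDegree χ :=
    ncard_le (H5.isCharacter_restrict hχ P) fun l hl => hl.elim (·.1) (·.1)
  have c3 := h.big
  have c4 := h'.big
  have c5 := Set.ncard_inter_add_ncard_diff_eq_ncard (wts χ P x') (wts χ P x)
  rw [Set.inter_comm] at c5
  obtain ⟨ν, hν⟩ := (Set.ncard_pos (s := wts χ P x ∩ wts χ P x')).1 (by omega)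
  obtain ⟨l, l', hl, hl', e⟩ := (Set.one_lt_ncard_iff (s := wts χ P x' \ wts χ P x)).1 (by omega)
  have e1 : l x = 1 := by_contra fun e => hl.2 ⟨hl.1.1, e⟩
  have e2 : l' x = 1 := by_contra fun e => hl'.2 ⟨hl'.1.1, e⟩
  exact hν.1.2 ((h'.agree ν hν.2 l hl.1 x ((k h' l hl.1 l' hl'.1 e x).2 (e1.trans e2.symm))).trans e1)

theorem Good.normalizer_le (hχ : IsCharacter G χ) (hd : charDegree χ + 1 < p)
    (hp : 7 ≤ p ∨ charDegree χ + 2 < p) (h : Good p χ P x A) :
    normalizer (P : Set G) ≤ normalizer (A : Set G) := by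
  haveI := fin (P := P)
  intro g hg
  let e := P.normalizerMonoidHom ⟨g, hg⟩
  have e1 : P.map (MulAut.conj g).toMonoidHom = P := by
    ext a
    exact ⟨by rintro ⟨b, hb, rfl⟩; exact (hg b).1 hb,
      fun ha => ⟨g⁻¹ * a * g, (hg _).2 (by simpa [mul_assoc] using ha), by simp [mul_assoc]⟩⟩
  have k : ∀ l, l ∈ wts χ P (e x) ↔ l.comp e.toMonoidHom ∈ wts χ P x := fun l =>
    and_congr (by rw [← wt_comp hχ hg l]; rfl) Iff.rfl
  have h' : Good p χ P (e x) (A.map (MulAut.conj g).toMonoidHom) := by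
    refine ⟨e1 ▸ map_mono h.le, ?_, h.big.trans (Nat.mul_le_mul_left 2 ?_), ?_⟩
    · rw [← h.idx, ← relIndex_map_map_of_injective (f := (MulAut.conj g).toMonoidHom) A P
        (MulAut.conj g).injective, e1]
    · refine Set.ncard_le_ncard_of_injOn (fun l => l.comp e.symm.toMonoidHom) (fun l hl => ?_)
        fun l _ l' _ k => MonoidHom.ext fun a => by simpa using DFunLike.congr_fun k (e a)
      rw [k]
      convert hl
      ext a; simp
    · rintro l hl l' hl' a ⟨b, hb, e2⟩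
      have := h.agree _ ((k l).1 hl) _ ((k l').1 hl') ⟨b, h.le hb⟩ hb
      rwa [show a = e ⟨b, h.le hb⟩ from Subtype.ext e2.symm]
  have e2 := h.unique hχ hd hp h'
  intro a
  refine ⟨fun ha => e2 ▸ ⟨a, ha, rfl⟩, fun ha => ?_⟩
  rw [e2] at ha
  obtain ⟨b, hb, e3⟩ := ha
  rwa [← (MulAut.conj g).injective e3]

theorem Good.le_center (hχ : IsCharacter G χ) (hf : Fa χ) (hd : charDegree χ + 1 < p)
    (h : Good p χ P x A) {H : Subgroup G} (hA : A ≤ H) (hH : H ≤ normalizer (A : Set G))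
    (hirr : IsIrrCharacter H fun g => χ g) : A ≤ center G := by
  classical
  haveI := fin (P := P)
  haveI := Fintype.ofFinite H
  haveI := Fintype.ofFinite (A.subgroupOf H)
  haveI : (A.subgroupOf H).Normal := (normal_subgroupOf_iff_le_normalizer hA).2 hH
  have c1 := h.big
  obtain ⟨l0, hl0⟩ := (Set.ncard_pos (s := wts χ P x)).1 (by omega)
  let f : A.subgroupOf H →* P := (inclusion h.le).comp (subgroupOfEquivOfLe hA).toMonoidHom
  have hN : IsCharacter (A.subgroupOf H) fun n => χ (n : H) := H5.isCharacter_restrict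
    (H5.isCharacter_restrict hχ H) _
  have k1 : ∀ m : ℕ, classInner (fun n : A.subgroupOf H => χ (n : H)) (ir (l0.comp f)) = m →
      (wts χ P x).ncard ≤ m := by
    intro m hm
    have e1 := H5.isCharacter_comp (sub_sum (H5.isCharacter_restrict hχ P) (wts χ P x).toFinite.toFinset
      fun l hl => (by simpa using hl : l ∈ wts χ P x).1) f
    obtain ⟨n, hn⟩ := H5.exists_nat_classInner e1 (H5.isCharacter_of_isIrr (ir (l0.comp f)).2)
    have e2 : (fun n => ((fun a : P => χ a) - ∑ l ∈ (wts χ P x).toFinite.toFinset,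
        fun a => (l a : ℂ)) (f n)) = (fun n : A.subgroupOf H => χ (n : H)) -
          (wts χ P x).ncard • (ir (l0.comp f) : A.subgroupOf H → ℂ) := by
      funext n
      simp only [Pi.sub_apply, Finset.sum_apply, Pi.smul_apply]
      rw [Finset.sum_congr rfl fun l hl => by
        rw [h.agree l (by simpa using hl) l0 hl0 (f n) n.2], Finset.sum_const,
        Set.ncard_eq_toFinset_card _ (wts χ P x).toFinite]
      rfl
    rw [e2, H5.classInner_sub_left, H5.classInner_nsmul_left, hm, H5.classInner_irr_self (ir _).2,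
      mul_one, sub_eq_iff_eq_add] at hn
    have : m = n + (wts χ P x).ncard := by exact_mod_cast hn
    omega
  obtain ⟨m, hm⟩ := H5.exists_nat_classInner hN (H5.isCharacter_of_isIrr (ir (l0.comp f)).2)
  have k2 := H6.res_eq_smul_of_invariant (A.subgroupOf H) hirr (ir (l0.comp f)).2 (by
    rw [hm, Nat.cast_ne_zero]; have := k1 m hm; omega) fun g => by
    by_contra hne
    let ψ : IrrCharacter (A.subgroupOf H) := ⟨_, H6.isIrr_conjChar _ (ir (l0.comp f)).2 g⟩
    have e1 : ψ ≠ ir (l0.comp f) := fun e => hne (congrArg Subtype.val e)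
    have e2 := sum_mul_degree_le hN {ψ, ir (l0.comp f)} (fun _ => (wts χ P x).ncard) (by
      intro φ hφ n hn
      rcases Finset.mem_insert.1 hφ with rfl | hφ
      · exact k1 n ((H6.classInner_res_conjChar _
          (H5.isClassFunction_of_isIrr hirr) g _).symm.trans hn)
      · rw [Finset.mem_singleton.1 hφ] at hn; exact k1 n hn)
    have e3 : charDegree (ψ : A.subgroupOf H → ℂ) = 1 :=
      (H88.charDegree_congr (H6.conjChar_apply_one _ g _)).trans (deg_ir _)
    rw [Finset.sum_pair e1, e3, deg_ir] at e2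
    have e4 : charDegree (fun n : A.subgroupOf H => χ (n : H)) = charDegree χ := rfl
    omega
  intro a ha
  refine mem_center_of_norm hχ hf ?_
  have e1 : χ a = _ := congrFun k2 ⟨⟨a, hA ha⟩, ha⟩
  have e2 : χ 1 = _ := congrFun k2 1
  rw [e1, e2, Pi.smul_apply, Pi.smul_apply, norm_smul, norm_smul]
  congr 1
  exact (H5.norm_monoidHom _ _).trans (H5.norm_monoidHom _ _).symm

theorem good_of_dec (hχ : IsCharacter G χ) (hab : ∀ a ∈ P, ∀ b ∈ P, a * b = b * a)
    (hx : orderOf (x : G) = p) (hE : Eig p χ (x : G)) (hA : A ≤ P) (hi : A.relIndex P = p)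
    (hD : ∀ a ∈ A, ∃ β : ℂ, ∀ i : ℕ, χ ((x : G) ^ i * a) - χ a = β * (χ ((x : G) ^ i) - χ 1)) :
    Good p χ P x A := by
  classical
  haveI := fin (P := P)
  haveI := Fintype.ofFinite (P →* ℂˣ)
  obtain ⟨E1, E2, -⟩ := eig_wts hχ hab hx hE
  obtain ⟨m, m1, m2⟩ := exists_m (H5.isCharacter_restrict hχ P) fun a b => Subtype.ext (hab a a.2 b b.2)
  obtain ⟨c, c1, c2, -⟩ := exists_c hx
  refine ⟨hA, hi, E2, fun l hl l' hl' a ha => ?_⟩
  obtain ⟨β, hβ⟩ := hD a ha
  have key : ∀ l ∈ wts χ P x, (l a : ℂ) = β := fun l hl => by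
    have e := four (fun l => (m l : ℂ) * (l a - β)) c (fun b => if b = 0 then χ a - β * χ 1 else 0)
      (fun i => by
        have e1 := m2 (x ^ i.val * a)
        have e2 := m2 (x ^ i.val)
        simp only [map_mul, map_pow, Units.val_mul, Units.val_pow_eq_pow_val, c1, ech_pow,
          ZMod.natCast_zmod_val, SubmonoidClass.coe_pow, Subgroup.coe_mul] at e1 e2
        have e3 := hβ i.val
        rw [e1, e2] at e3
        have e4 : ∑ l, (m l : ℂ) * (l a - β) * ech p (c l * i) =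
            ∑ l, (m l : ℂ) * (ech p (c l * i) * l a) - β * ∑ l, (m l : ℂ) * ech p (c l * i) := by
          rw [Finset.mul_sum, ← Finset.sum_sub_distrib]
          exact Finset.sum_congr rfl fun _ _ => by ring
        rw [e4]
        simp only [ite_mul, zero_mul, Finset.sum_ite_eq', Finset.mem_univ, if_true,
          AddChar.map_zero_eq_one, mul_one]
        linear_combination e3) (c l)
    rw [if_neg fun k => hl.2 ((c2 l).1 k), Finset.sum_eq_single_of_mem l (by simp) fun l' h' hne => ?_] at e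
    · have := hl.1
      rw [m1] at this
      exact sub_eq_zero.1 ((mul_eq_zero.1 e).resolve_left this)
    · have e1 : l' x = l x := Units.ext (by rw [c1, c1, (Finset.mem_filter.1 h').2])
      refine mul_eq_zero_of_left ?_ _
      rw [← m1]
      by_contra k
      exact hne (E1 l' ⟨k, e1 ▸ hl.2⟩ l hl e1)
  exact Units.ext ((key l hl).trans (key l' hl').symm)

theorem good_of_aut (hχ : IsCharacter G χ) (hf : Fa χ) (hab : ∀ a ∈ P, ∀ b ∈ P, a * b = b * a)
    (hx : orderOf (x : G) = p) (hE : Eig p χ (x : G)) {g : G} (hg : g ∈ normalizer (P : Set G))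
    (hgx : Commute g x) (hC : ∀ a ∈ P, Commute g a → a ∈ zpowers (x : G)) :
    ∃ A, Good p χ P x A ∧ (2 * charDegree χ ≤ p + 1 → A = ⊥) := by
  classical
  haveI := fin (P := P)
  haveI := Fintype.ofFinite (P →* ℂˣ)
  have hab' : ∀ a b : P, a * b = b * a := fun a b => Subtype.ext (hab a a.2 b b.2)
  obtain ⟨E1, E2, E3⟩ := eig_wts hχ hab hx hE
  obtain ⟨m, m1, m2⟩ := exists_m (H5.isCharacter_restrict hχ P) hab'
  let e := P.normalizerMonoidHom ⟨g, hg⟩
  have ex : e x = x := Subtype.ext (mul_inv_eq_iff_eq_mul.2 hgx.eq)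
  let φ : P →* P := MonoidHom.mk' (fun a => e a * a⁻¹) fun a b => by
    rw [map_mul, mul_inv_rev, mul_assoc, mul_assoc, ← mul_assoc (e b), hab' _ a⁻¹]
  have hk : φ.ker = zpowers x := by
    refine le_antisymm (fun a ha => ?_) (zpowers_le.2 (mul_inv_eq_one.2 ex))
    have e1 : g * a * g⁻¹ = a := congrArg Subtype.val (mul_inv_eq_one.1 ha : e a = a)
    obtain ⟨k, hk⟩ := hC a a.2 (mul_inv_eq_iff_eq_mul.1 e1)
    exact ⟨k, Subtype.ext hk⟩
  have hi : φ.range.index = p := by
    have e1 := φ.ker.index_mul_card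
    rw [index_ker, hk, Nat.card_zpowers, ← orderOf_coe, hx, ← φ.range.card_mul_index] at e1
    exact (Nat.eq_of_mul_eq_mul_left Nat.card_pos e1).symm
  have k : ∀ l : P →* ℂˣ, l.comp e.toMonoidHom = l → ∀ a : P, (a : G) ∈ φ.range.map P.subtype → l a = 1 := by
    rintro l hl a ⟨_, ⟨b, rfl⟩, hb⟩
    rw [show a = e b * b⁻¹ from Subtype.ext hb.symm, map_mul, map_inv, mul_inv_eq_one]
    exact DFunLike.congr_fun hl b
  have w : ∀ l : P →* ℂˣ, classInner (fun a : P => χ a) (fun a => (l a : ℂ)) ≠ 0 →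
      classInner (fun a : P => χ a) (fun a => (l.comp e.toMonoidHom a : ℂ)) ≠ 0 := fun l hl =>
    (wt_comp hχ hg l).trans_ne hl
  have wx : ∀ l : P →* ℂˣ, l.comp e.toMonoidHom x = l x := fun l => congrArg l ex
  have k2 : ∀ l ∈ wts χ P x, l.comp e.toMonoidHom = l := fun l hl =>
    E1 _ ⟨w l hl.1, (wx l).trans_ne hl.2⟩ l hl (wx l)
  refine ⟨φ.range.map P.subtype, ⟨map_subtype_le _, ?_, E2, fun l hl l' hl' a ha =>
    (k l (k2 l hl) a ha).trans (k l' (k2 l' hl') a ha).symm⟩, fun hd => eq_bot_iff.2 fun a ha => ?_⟩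
  · rw [relIndex, subgroupOf, comap_map_eq_self_of_injective P.subtype_injective, hi]
  · refine hf a ?_
    have e1 : χ a = _ := m2 ⟨a, map_subtype_le _ ha⟩
    have e2 : χ 1 = _ := m2 1
    rw [e1, e2]
    refine Finset.sum_congr rfl fun l _ => ?_
    by_cases h0 : (m l : ℂ) = 0
    · rw [h0, zero_mul, zero_mul]
    · rw [← m1] at h0
      rw [k l (E3 hd _ l (w l h0) h0 (wx l)) _ ha, map_one]

end Cfsg.Agent.L16
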