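import Cfsg.Agent.L16.St
import Cfsg.Agent.L16.Klem
import Cfsg.Agent.L16.Wt
import Cfsg.Agent.L16.Five
import Cfsg.Agent.H88.TILat
import Cfsg.Agent.H31.FeitTh
import Cfsg.Agent.H43.Basic
import Cfsg.Agent.H3.Fusion

set_option autoImplicit false
set_option linter.unusedSectionVars false

namespace Cfsg.Agent.L16

open Subgroup Cfsg Cfsg.Agent.H35

section
variable {G : Type*} [Group G] [Finite G] {p : ℕ} [Fact p.Prime] {χ : G → ℂ}

theorem rc_comm (hχ : IsCharacter G χ) (hf : Fa χ) (hd : charDegree χ + 1 < p) {Q : Subgroup G}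
    (hQ : IsPGroup p Q) : ∀ a ∈ Q, ∀ b ∈ Q, a * b = b * a := fun _ ha _ hb =>
  (H31.lin_of_faithful hχ hf (cast_degree hχ) le_rfl).comm_of_isPGroup Fact.out (by omega) hQ ha hb

theorem rc_nc {A : Subgroup G} (h : A ≤ center G) : A.Normal := ⟨fun n hn g => by
  rwa [mem_center_iff.mp (h hn) g, mul_inv_cancel_right]⟩

theorem rc_le {P : Subgroup G} (hab : ∀ a ∈ P, ∀ b ∈ P, a * b = b * a) {y : G} (hy : y ∈ P) :
    P ≤ centralizer {y} := fun a ha => mem_centralizer_singleton_iff.mpr (hab a ha y hy)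

theorem rc_zp {P : Subgroup G} (hP : IsPGroup p P) {u : G} (hu : u ∈ P) (g : G) :
    IsPGroup p (zpowers (g * u * g⁻¹)) := by
  obtain ⟨k, hk⟩ := IsPGroup.iff_orderOf.mp hP ⟨u, hu⟩
  exact IsPGroup.of_card (n := k) (by
    rw [Nat.card_zpowers, ← hk, ← orderOf_coe]; exact (MulAut.conj g).orderOf_eq u)

theorem rc_free (P : Sylow p G) (hab : ∀ a ∈ (P : Subgroup G), ∀ b ∈ (P : Subgroup G), a * b = b * a)
    {H : Subgroup G} (hN : normalizer (P : Set G) ≤ H)
    (hC : ∀ y ∈ (P : Subgroup G), y ≠ 1 → centralizer {y} ≤ H) :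
    ∀ u ∈ (P : Subgroup G), ∀ g, g ∉ H → g⁻¹ * u * g ∈ H → u = 1 := fun u hu g hg h => by
  by_contra h1
  obtain ⟨c, hc, h2⟩ := H43.exists_conj_le_sylow_in P (P.1.le_normalizer.trans hN)
    (rc_zp P.isPGroup' hu g⁻¹) (zpowers_le.mpr (by rwa [inv_inv]))
  replace h2 := h2 _ (mem_zpowers _)
  rw [show c * (g⁻¹ * u * g⁻¹⁻¹) * c⁻¹ = (c * g⁻¹) * u * (c * g⁻¹)⁻¹ by group] at h2
  obtain ⟨l, hl, h3⟩ := H3.exists_mem_smul_eq_of_le ((c * g⁻¹) • P) P
    (H := centralizer {(c * g⁻¹) * u * (c * g⁻¹)⁻¹}) (fun a ha => by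
      obtain ⟨b, hb, rfl⟩ := ha
      refine mem_centralizer_singleton_iff.mpr ?_
      change (c * g⁻¹) * b * (c * g⁻¹)⁻¹ * _ = _ * ((c * g⁻¹) * b * (c * g⁻¹)⁻¹)
      rw [conj_mul, conj_mul, hab b hb u hu])
    (rc_le hab h2)
  rw [smul_smul, Sylow.smul_eq_iff_mem_normalizer] at h3
  have h4 := hC _ h2 (fun e => h1 (conj_eq_one_iff.mp e)) hl
  exact hg (by simpa using H.mul_mem (H.inv_mem (H.mul_mem (H.inv_mem h4) (hN h3))) hc)

theorem rc_not_le {K : Subgroup G} {x : G} (h : Kd p K x) (P : Sylow p G)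
    (hab : ∀ a ∈ (P : Subgroup G), ∀ b ∈ (P : Subgroup G), a * b = b * a) :
    ¬ K ≤ normalizer (P : Set G) := fun hK => by
  have hp : p.Prime := Fact.out
  have h1 : ((P : Subgroup G).subgroupOf K).Normal := ⟨fun n hn g =>
    (mem_normalizer_iff.mp (hK g.2) n).mp hn⟩
  have h2 : x ∈ (P : Subgroup G) := by
    have : ((P.subtype P.1.le_normalizer : Sylow p _) : Subgroup (normalizer (P : Set G))).Normal :=
      normal_in_normalizer
    exact H81.mem_sylow_of_normal (P.subtype P.1.le_normalizer) this (g := ⟨x, hK h.mem⟩) (k := 1)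
      (Subtype.ext (by simpa using orderOf_dvd_iff_pow_eq_one.mp h.ord.dvd))
  have h3 : (⊤ : Subgroup K) ≤ (P : Subgroup G).subgroupOf K :=
    h.gen ▸ normalClosure_le_normal (Set.singleton_subset_iff.mpr h2)
  have h4 : commutator K = ⊥ := by
    rw [commutator_eq_bot_iff_center_eq_top, eq_top_iff]
    exact fun a _ => mem_center_iff.mpr fun b =>
      Subtype.ext (hab _ (h3 (mem_top b)) _ (h3 (mem_top a)))
  have h5 : (⟨x, h.mem⟩ : K) = 1 := mem_bot.mp (h4 ▸ h.perf ▸ mem_top _)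
  exact hp.ne_one (by rw [← h.ord, show x = 1 from congrArg Subtype.val h5, orderOf_one])

theorem rc_norm (C : Subgroup G) : C ≤ normalizer ((pCoreOf p C : Subgroup G) : Set G) :=
  fun c hc => mem_normalizer_fintype (by
    rintro _ ⟨n, hn, rfl⟩
    exact ⟨_, (pCore_normal p C).conj_mem n hn ⟨c, hc⟩, rfl⟩)

theorem rc_goodA (hχ : IsCharacter G χ) (hf : Fa χ) (hd : charDegree χ + 1 < p) (P : Sylow p G)
    [Fintype (P : Subgroup G)] {y : G} (hy : y ∈ (P : Subgroup G))
    (ih : ¬ p ^ 2 ∣ (pCore p (centralizer ({y} : Set G))).index)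
    (hn : ¬ centralizer {y} ≤ normalizer (P : Set G)) :
    ∃ (K : Subgroup G) (x : (P : Subgroup G)), Kd p K x ∧ K ≤ centralizer {y} ∧
      Good p χ P x (pCoreOf p (centralizer {y})) := by
  have hab := rc_comm hχ hf hd P.isPGroup'
  have hle := rc_le hab hy
  obtain ⟨K, x, h1, h2, h3, h4, h5, -⟩ := st_sub hχ hf hd _ ih (P.subtype hle) fun h =>
    hn fun c hc => mem_normalizer_fintype fun a ha => h.conj_mem ⟨a, hle ha⟩ ha ⟨c, hc⟩
  have h6 : ((P.subtype hle : Sylow p _) : Subgroup (centralizer ({y} : Set G))).map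
      (centralizer ({y} : Set G)).subtype = P := by
    rw [Sylow.coe_subtype, subgroupOf_map_subtype, inf_eq_left.mpr hle]
  rw [h6] at h3 h5
  refine ⟨K, ⟨x, h3⟩, h1, h2, good_of_dec hχ hab h1.ord (eig hχ hf hd h1)
    (h6 ▸ map_mono (H44.pCore_isPGroup.le_sylow_of_normal _)) h5 fun a ha => ?_⟩
  obtain ⟨β, hβ⟩ := dec hχ hf hd h1 (h4 a ha)
  exact ⟨β, fun i => hβ _ (pow_mem h1.mem i)⟩

theorem rc_fin (hχ : IsIrrCharacter G χ) (hf : Fa χ) (hd : charDegree χ + 1 < p)
    (hO : pCore p G = ⊥) (P : Sylow p G) [Fintype (P : Subgroup G)] (hP : p ^ 2 ≤ Nat.card P)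
    (hp : 7 ≤ p ∨ charDegree χ + 2 < p) {x : (P : Subgroup G)} {A : Subgroup G}
    (h : Good p χ P x A) (hC : ∀ y ∈ (P : Subgroup G), y ≠ 1 →
      centralizer {y} ≤ normalizer (A : Set G)) : A = ⊥ := by
  have := Fintype.ofFinite G
  have := Fintype.ofFinite (normalizer (A : Set G))
  have hc := H5.isCharacter_of_isIrr hχ
  have h1 := h.normalizer_le hc hd hp
  have h2 := H88.classInner_restrict_of_free Fact.out P.isPGroup' (P.1.le_normalizer.trans h1)
    (rc_free P (rc_comm hc hf hd P.isPGroup') h1 hC) hc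
    ((Nat.pow_le_pow_left (by omega) 2).trans hP)
  have h3 := h.le_center hc hf hd le_normalizer le_rfl (H5.isIrr_of_classInner_self_eq_one
    (H5.isCharacter_restrict hc _) (h2 ▸ H5.classInner_irr_self hχ))
  exact eq_bot_iff.mpr (hO ▸ H44.le_pCore (rc_nc h3) (P.isPGroup'.to_le h.le))

end

theorem rcore {G : Type*} [Group G] [Finite G] {p : ℕ} [Fact p.Prime] {χ : G → ℂ}
    (hχ : IsIrrCharacter G χ) (hf : Fa χ) (hd : charDegree χ + 1 < p) (hO : pCore p G = ⊥)
    (hgen : ∀ (P : Sylow p G) (M : Subgroup G), M.Normal → (P : Subgroup G) ≤ M → M = ⊤)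
    (ih : ∀ C : Subgroup G, C ≠ ⊤ → ¬ p ^ 2 ∣ (pCore p C).index) : ¬ p ^ 2 ∣ Nat.card G := by
  intro hsq
  have hp : p.Prime := Fact.out
  have := Fintype.ofFinite G
  have hc := H5.isCharacter_of_isIrr hχ
  have hab := fun P : Sylow p G => rc_comm hc hf hd P.isPGroup'
  have hP : ∀ P : Sylow p G, p ^ 2 ≤ Nat.card P := fun P => by
    rw [P.card_eq_multiplicity]
    exact Nat.pow_le_pow_right hp.pos ((hp.pow_dvd_iff_le_factorization Nat.card_pos.ne').mp hsq)
  have hpp : p < p ^ 2 := by nlinarith [hp.two_le]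
  have hbot : ∀ (P : Sylow p G) [Fintype (P : Subgroup G)] (x : (P : Subgroup G)),
      ¬ Good p χ P x ⊥ := fun P _ x h => by
    have h1 := h.idx
    have h2 := hP P
    rw [relIndex_bot_left] at h1
    exact absurd (h2.trans_eq h1) (by omega)
  have hZ : ∀ P : Sylow p G, (P : Subgroup G) ⊓ center G = ⊥ := fun P => eq_bot_iff.mpr
    (hO ▸ H44.le_pCore (rc_nc inf_le_right) (P.isPGroup'.to_le inf_le_left))
  have hC : ∀ g ∉ center G, centralizer {g} ≠ ⊤ := fun g hg e =>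
    hg (mem_center_iff.mpr fun x => mem_centralizer_singleton_iff.mp (e ▸ mem_top x))
  have hC' : ∀ P : Sylow p G, ∀ y ∈ (P : Subgroup G), y ≠ 1 → centralizer {y} ≠ ⊤ :=
    fun P y hy h1 => hC y fun h => h1 (mem_bot.mp (hZ P ▸ mem_inf.mpr ⟨hy, h⟩))
  have h1 : χ 1 ≠ 1 := fun e => by
    obtain ⟨P⟩ : Nonempty (Sylow p G) := inferInstance
    obtain ⟨l, rfl⟩ := H5.exists_monoidHom_of_degree_one hc e
    have h : (P : Subgroup G) ≤ center G := fun a _ => mem_center_iff.mpr fun b =>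
      mul_inv_eq_one.mp (hf _ (by simp [mul_comm (l b)]))
    have h2 := hP P
    rw [show Nat.card P = 1 from card_eq_one.mpr (inf_eq_left.mpr h ▸ hZ P)] at h2
    omega
  have h5 : ¬ (7 ≤ p ∨ charDegree χ + 2 < p) → p = 5 ∧ charDegree χ = 3 := fun h => by
    have a1 : charDegree χ ≠ 1 := fun e => h1 (by rw [cast_degree hc, e, Nat.cast_one])
    have a2 := degree_pos ⟨χ, hχ⟩
    have a3 : p ≠ 4 ∧ p ≠ 6 := by refine ⟨?_, ?_⟩ <;> rintro rfl <;> norm_num at hp
    change 0 < charDegree χ at a2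
    omega
  by_cases hA : ∃ P : Sylow p G, ∃ y ∈ (P : Subgroup G), y ≠ 1 ∧
      ¬ centralizer {y} ≤ normalizer (P : Set G)
  · obtain ⟨P, y, hy, hy1, hn⟩ := hA
    have := Fintype.ofFinite (P : Subgroup G)
    obtain ⟨K, x, a1, a2, a3⟩ := rc_goodA hc hf hd P hy (ih _ (hC' P y hy hy1)) hn
    by_cases h7 : 7 ≤ p ∨ charDegree χ + 2 < p
    · refine hbot P x (rc_fin hχ hf hd hO P (hP P) h7 a3 (fun z hz hz1 => ?_) ▸ a3)
      by_cases hz' : centralizer {z} ≤ normalizer (P : Set G)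
      · exact hz'.trans (a3.normalizer_le hc hd h7)
      obtain ⟨-, x', -, -, b⟩ := rc_goodA hc hf hd P hz (ih _ (hC' P z hz hz1)) hz'
      rw [a3.unique hc hd h7 b]
      exact rc_norm _
    obtain ⟨rfl, h3⟩ := h5 h7
    obtain ⟨k, hk⟩ := IsPGroup.iff_orderOf.mp P.isPGroup' ⟨y, hy⟩
    rw [← orderOf_coe] at hk
    have a4 : 5 ∣ orderOf y := hk ▸ dvd_pow_self 5 fun e => hy1 (by simpa [e] using hk)
    exact five hχ hf h3 hO a1 (orderOf_pow_orderOf_div (orderOf_pos y).ne' a4) fun k hk =>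
      (show Commute y k from (mem_centralizer_singleton_iff.mp (a2 hk)).symm).pow_left _
  push Not at hA
  by_cases hB : ∀ g ∉ center G, ∀ R : Sylow p (centralizer ({g} : Set G)),
      (R : Subgroup (centralizer ({g} : Set G))).Normal
  · obtain ⟨P⟩ : Nonempty (Sylow p G) := inferInstance
    have := Fintype.ofFinite (P : Subgroup G)
    have key : ∀ u ∈ (P : Subgroup G), u ≠ 1 → ∀ v : G, IsPGroup p (zpowers v) → v * u = u * v →
        v ∈ (P : Subgroup G) := fun u hu hu1 v hv e => by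
      obtain ⟨c, c1, c2⟩ := H43.exists_conj_le_sylow_in P (rc_le (hab P) hu) hv
        (zpowers_le.mpr (mem_centralizer_singleton_iff.mpr e))
      exact (mem_normalizer_iff.mp (hA P u hu hu1 c1) v).mpr (c2 v (mem_zpowers v))
    have hb := H31.feit_thompson_bound' (P : Subgroup G) (hZ P)
      (fun g hg u hu hu1 e1 w hw hw1 x e2 => by
        obtain ⟨S⟩ : Nonempty (Sylow p (centralizer {g})) := inferInstance
        have := hB g hg S
        have m : ∀ {v : G} (hv : g * v = v * g), IsPGroup p (zpowers v) →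
            v ∈ (S : Subgroup _).map (centralizer ({g} : Set G)).subtype := fun {v} hv h =>
          ⟨⟨v, mem_centralizer_singleton_iff.mpr hv.symm⟩,
            let ⟨k, hk⟩ := h ⟨v, mem_zpowers v⟩
            H81.mem_sylow_of_normal S this (k := k) (Subtype.ext (congrArg Subtype.val hk :)), rfl⟩
        have m3 := key u hu hu1 _ (rc_zp P.isPGroup' hw x) (rc_comm hc hf hd
          (S.isPGroup'.map _) _ (m e2 (rc_zp P.isPGroup' hw x)) _
          (m e1 (P.isPGroup'.to_le (zpowers_le.mpr hu))))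
        refine mem_normalizer_fintype fun y hy => key _ m3 (by simpa using hw1) _
          (rc_zp P.isPGroup' hy x) ?_
        simpa only [MulAut.conj_apply, conj_mul] using congrArg (MulAut.conj x) (hab P y hy w hw))
      (hab P) hχ h1 (hgen P)
    rw [cast_degree hc, Complex.natCast_re] at hb
    have h2 : Nat.card (P : Subgroup G) < (1 + charDegree χ) ^ 2 := by exact_mod_cast hb
    have h3 := Nat.pow_le_pow_left (show 1 + charDegree χ ≤ p by omega) 2
    exact absurd (hP P) (not_le.mpr (h2.trans_le h3))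
  push Not at hB
  obtain ⟨g, hg, R, hR⟩ := hB
  obtain ⟨K, x, a1, a2, a3, a4, a5, -⟩ := st_sub hc hf hd _ (ih _ (hC g hg)) R hR
  have a6 : pCoreOf p (centralizer ({g} : Set G)) = ⊥ := eq_bot_iff.mpr fun q hq => by
    by_contra h
    obtain ⟨P, hP⟩ := (H44.pCore_isPGroup.map (centralizer ({g} : Set G)).subtype).exists_le_sylow
    exact rc_not_le a1 P (hab P) fun k hk => hA P q (hP hq) h
      (mem_centralizer_singleton_iff.mpr (a4 q hq k hk).symm)
  rw [a6, relIndex_bot_left, card_map_of_injective (subtype_injective _)] at a5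
  obtain ⟨P, hxP⟩ := (R.isPGroup'.map (centralizer ({g} : Set G)).subtype).exists_le_sylow
  have := Fintype.ofFinite (P : Subgroup G)
  have hx1 : x ≠ 1 := fun e => hp.ne_one (by rw [← a1.ord, e, orderOf_one])
  have hgx : Commute g x := (mem_centralizer_singleton_iff.mp (a2 a1.mem)).symm
  obtain ⟨A, b1, b2⟩ := good_of_aut (x := ⟨x, hxP a3⟩) hc hf (hab P) a1.ord (eig hc hf hd a1)
    (hA P x (hxP a3) hx1 (mem_centralizer_singleton_iff.mpr hgx)) hgx fun a ha hga => by
      obtain ⟨R', hR'⟩ := (P.isPGroup'.comap_subtype (K := centralizer {g})).exists_le_sylow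
      have c1 : zpowers x = (R' : Subgroup _).map (centralizer ({g} : Set G)).subtype :=
        eq_of_le_of_card_ge (zpowers_le.mpr ⟨⟨x, a2 a1.mem⟩, hR' (hxP a3), rfl⟩) (by
          rw [card_map_of_injective (subtype_injective _), R'.card_eq_multiplicity,
            ← R.card_eq_multiplicity, a5, Nat.card_zpowers, a1.ord])
      exact c1 ▸ ⟨⟨a, mem_centralizer_singleton_iff.mpr hga.symm⟩, hR' ha, rfl⟩
  refine hbot P _ ((?_ : A = ⊥) ▸ b1)
  by_cases h7 : 7 ≤ p ∨ charDegree χ + 2 < p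
  · exact rc_fin hχ hf hd hO P (hP P) h7 b1 fun y hy hy1 =>
      (hA P y hy hy1).trans (b1.normalizer_le hc hd h7)
  · exact b2 (by have := h5 h7; omega)

end Cfsg.Agent.L16
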