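import Cfsg.Agent.L16.RCore
import Cfsg.Agent.H88.Eig

/-! Feit's bound: reduction to the irreducible case with trivial `O_p`. -/

set_option autoImplicit false
set_option linter.unusedSectionVars false

namespace Cfsg.Agent.L16

open Subgroup Cfsg Cfsg.Agent.H35

universe u

namespace RInd

variable {G : Type u} [Group G] [Finite G] {p : ℕ} [Fact p.Prime] {χ : G → ℂ}

theorem quot (hχ : IsCharacter G χ) (N : Subgroup G) [N.Normal] (h : ∀ g, χ g = χ 1 ↔ g ∈ N) :
    ∃ φ, IsCharacter (G ⧸ N) φ ∧ Fa φ ∧ charDegree φ = charDegree χ := by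
  obtain ⟨φ, hφ, rfl⟩ := H5.exists_isCharacter_quotient N hχ fun g hg => (h g).2 hg
  refine ⟨φ, hφ, fun g hg => ?_, rfl⟩
  obtain ⟨g, rfl⟩ := QuotientGroup.mk_surjective g
  exact (QuotientGroup.eq_one_iff g).2 ((h g).1 hg)

theorem idx (N : Subgroup G) [N.Normal] (hN : IsPGroup p N) :
    (pCore p (G ⧸ N)).index = (pCore p G).index := by
  rw [← H44.comap_pCore (QuotientGroup.mk' N) (QuotientGroup.mk'_surjective N)
    (by rwa [QuotientGroup.ker_mk']), index_comap_of_surjective _ (QuotientGroup.mk'_surjective N)]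

theorem card_le (N : Subgroup G) [N.Normal] : Nat.card (G ⧸ N) ≤ Nat.card G :=
  Nat.card_le_card_of_surjective _ (QuotientGroup.mk'_surjective N)

theorem twist (hχ : IsIrrCharacter G χ) (hf : Fa χ) (hd : charDegree χ < p)
    (hc : pCore p G ≤ center G) :
    ∃ χ', IsCharacter G χ' ∧ charDegree χ' = charDegree χ ∧ ∀ g, χ' g = χ' 1 ↔ g ∈ pCore p G := by
  have hp : p.Prime := Fact.out
  have hχ' := H5.isCharacter_of_isIrr hχ
  have h1 := H31.degree_eq_charDegree hχ'
  have d0 : charDegree χ ≠ 0 := fun h => H5.degree_ne_zero hχ (by rw [h1, h, Nat.cast_zero])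
  obtain ⟨lam, hl⟩ := H88.exists_eigenvalues_det hχ'
  have sc : ∀ z, ‖χ z‖ = ‖χ 1‖ → ∃ ω : ℂ, ω ^ orderOf z = 1 ∧ (∀ n : ℕ, χ (z ^ n) = χ 1 * ω ^ n) ∧
      (lam z : ℂ) = ω ^ charDegree χ := fun z hz => by
    obtain ⟨μ, m1, m2, m3⟩ := hl z
    have m4 := m2 1
    simp only [pow_one] at m4
    have e := H5.eq_of_norm_sum_eq_card μ
      (fun i => H5.norm_eq_one_of_pow_eq_one' (orderOf_pos z).ne' (m1 i))
      (by rw [← m4, hz, h1, Complex.norm_natCast, Fintype.card_fin])
    have i0 : Fin (charDegree χ) := ⟨0, Nat.pos_of_ne_zero d0⟩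
    refine ⟨μ i0, m1 _, fun n => ?_, ?_⟩
    · rw [m2, h1, Finset.sum_congr rfl fun i _ => by rw [e i i0]]
      simp
    · rw [← m3, Finset.prod_congr rfl fun i _ => e i i0]
      simp
  obtain ⟨P⟩ : Nonempty (Sylow p G) := inferInstance
  obtain ⟨k, hk⟩ := P.isPGroup'.exists_card_eq
  obtain ⟨t, -, ht⟩ := Nat.exists_mul_mod_eq_of_coprime 1 (n := charDegree χ * (P : Subgroup G).index) (k := p ^ k)
    (Nat.Coprime.pow_right k (Nat.Coprime.mul_left
      (H44.coprime_iff_not_dvd.2 (Nat.not_dvd_of_pos_of_lt (Nat.pos_of_ne_zero d0) hd))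
      (H44.coprime_iff_not_dvd.2 P.not_dvd_index))) (pow_pos hp.pos k).ne'
  have key : ∀ g, ((lam⁻¹ ^ ((P : Subgroup G).index * t)) g : ℂ) * χ g = χ 1 ↔
      χ g = χ 1 * (lam g : ℂ) ^ ((P : Subgroup G).index * t) := fun g => by
    rw [MonoidHom.pow_apply, MonoidHom.inv_apply, inv_pow, Units.val_inv_eq_inv_val, Units.val_pow_eq_pow_val,
      inv_mul_eq_iff_eq_mul₀ (pow_ne_zero _ (lam g).ne_zero), mul_comm]
  refine ⟨_, H5.isCharacter_of_isIrr (H5.isIrrCharacter_monoidHom_mul hχ (lam⁻¹ ^ ((P : Subgroup G).index * t))),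
    by simp only [charDegree, map_one, Units.val_one, one_mul], fun g => ?_⟩
  rw [map_one, Units.val_one, one_mul, key]
  constructor
  · intro h
    have hn : ‖χ g‖ = ‖χ 1‖ := by rw [h, norm_mul, norm_pow, H5.norm_monoidHom, one_pow, mul_one]
    obtain ⟨ω, -, o2, -⟩ := sc g hn
    have e := o2 1
    rw [pow_one, pow_one, h] at e
    have g1 : g ^ p ^ k = 1 := hf _ (by
      rw [o2, ← mul_left_cancel₀ (H5.degree_ne_zero hχ) e, ← pow_mul, ← Units.val_pow_eq_pow_val, ← map_pow,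
        ← hk, mul_right_comm, (P : Subgroup G).index_mul_card, pow_mul, pow_card_eq_one', one_pow, map_one,
        Units.val_one, mul_one])
    obtain ⟨j, -, hj⟩ := (Nat.dvd_prime_pow hp).1 (orderOf_dvd_of_pow_eq_one g1)
    refine H44.le_pCore ⟨fun a ha b => ?_⟩ (.of_card (by rw [Nat.card_zpowers, hj])) (mem_zpowers g)
    rwa [mem_center_iff.1 (zpowers_le.2 (mem_center_of_norm hχ' hf hn) ha) b, mul_inv_cancel_right]
  · intro h
    obtain ⟨ω, o1, o2, o3⟩ := sc g (H5.norm_apply_of_mem_center hχ (hc h))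
    have := H44.pCore_characteristic (p := p) (G := G)
    obtain ⟨c, hc⟩ := (P : Subgroup G).orderOf_dvd_natCard (H44.pCore_isPGroup.le_sylow_of_normal P h)
    rw [o3, ← pow_mul, ← mul_assoc, pow_eq_pow_of_modEq ht (by rw [← hk, hc, pow_mul, o1, one_pow]), ← o2, pow_one]

theorem aux (n : ℕ) : ∀ (G : Type u) [Group G] [Finite G] (χ : G → ℂ), IsCharacter G χ → Fa χ →
    charDegree χ + 1 < p → Nat.card G + charDegree χ = n → ¬ p ^ 2 ∣ (pCore p G).index := by
  induction n using Nat.strong_induction_on with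
  | _ n ih => ?_
  intro G _ _ χ hχ hf hd hn
  have hp : p.Prime := Fact.out
  have := Fintype.ofFinite G
  have := H44.pCore_characteristic (p := p) (G := G)
  have sub : ∀ C : Subgroup G, C ≠ ⊤ → ¬ p ^ 2 ∣ (pCore p C).index := fun C hC =>
    ih _ (hn ▸ Nat.add_lt_add_right (H31.card_lt_of_ne_top hC) _) C _ (H5.isCharacter_restrict hχ C)
      (St.fa hf C) hd rfl
  by_cases hgen : ∀ (P : Sylow p G) (M : Subgroup G), M.Normal → (P : Subgroup G) ≤ M → M = ⊤
  swap
  · push Not at hgen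
    obtain ⟨P, M, hM, hPM, hne⟩ := hgen
    refine fun h => sub M hne ?_
    have := H44.pCore_characteristic (p := p) (G := M)
    have h1 := h.trans (index_dvd_of_le (H44.le_pCore (N := (pCore p M).map M.subtype)
      (ConjAct.normal_of_characteristic_of_normal) (H44.pCore_isPGroup.map _)))
    rw [index_map_subtype] at h1
    exact (Nat.Coprime.pow_left 2 ((Nat.Prime.coprime_iff_not_dvd hp).2 fun h2 =>
      P.not_dvd_index (h2.trans (index_dvd_of_le hPM)))).dvd_of_dvd_mul_right h1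
  obtain ⟨P⟩ : Nonempty (Sylow p G) := inferInstance
  have red : ∀ χ₁ χ₂ : G → ℂ, IsCharacter G χ₁ → IsCharacter G χ₂ → χ = χ₁ + χ₂ → charDegree χ₁ ≠ 0 →
      charDegree χ₁ ≤ charDegree χ₂ → ¬ p ^ 2 ∣ (pCore p G).index := by
    rintro χ₁ χ₂ h1 h2 rfl d0 hle
    have hs : charDegree (χ₁ + χ₂) = charDegree χ₁ + charDegree χ₂ := by
      have := H31.degree_eq_charDegree hχ
      rw [Pi.add_apply, H31.degree_eq_charDegree h1, H31.degree_eq_charDegree h2] at this
      exact_mod_cast this.symm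
    obtain ⟨φ₁, c1, f1, e1⟩ := quot h1 (H5.charKer h1) fun _ => Iff.rfl
    obtain ⟨φ₂, c2, f2, e2⟩ := quot h2 (H5.charKer h2) fun _ => Iff.rfl
    have s1 := QuotientGroup.mk'_surjective (H5.charKer h1)
    have h3 := hgen P _ ((normal_of_small c1 f1 (by omega) (P.mapSurjective s1)).comap (QuotientGroup.mk' _))
      (le_comap_map _ _)
    rw [← idx (H5.charKer h2) fun g => ?_]
    · exact ih _ (by have := card_le (H5.charKer h2); omega) _ φ₂ c2 f2 (by omega) rfl
    obtain ⟨k, hk⟩ := St.pw (P.mapSurjective s1).isPGroup' (h3.ge (mem_top g.1))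
    refine ⟨k, Subtype.ext (hf _ ?_)⟩
    rw [← map_pow] at hk
    exact congrArg₂ (· + ·) ((QuotientGroup.eq_one_iff _).1 hk) (g ^ p ^ k).2
  by_cases h0 : χ = 0
  · have : pCore p G = ⊤ := eq_top_iff.2 fun g _ => hf g (by rw [h0]; rfl) ▸ one_mem _
    rw [this, index_top, Nat.dvd_one]
    exact (Nat.one_lt_pow two_ne_zero hp.one_lt).ne'
  obtain ⟨ψ, hψ, hc⟩ := H5.exists_irr_constituent hχ h0
  have h1 := H5.isCharacter_of_isIrr hψ
  have h2 := H5.isCharacter_sub_of_constituent hχ hψ hc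
  by_cases d2 : charDegree (χ - ψ) = 0
  swap
  · rcases le_total (charDegree ψ) (charDegree (χ - ψ)) with h | h
    · exact red _ _ h1 h2 (add_sub_cancel _ _).symm (fun h => H5.degree_ne_zero hψ (by
        rw [H31.degree_eq_charDegree h1, h, Nat.cast_zero])) h
    · exact red _ _ h2 h1 (sub_add_cancel _ _).symm d2 h
  obtain rfl := sub_eq_zero.1 (H5.eq_zero_of_degree_eq_zero h2 (by
    rw [H31.degree_eq_charDegree h2, d2, Nat.cast_zero]))
  by_cases hO : pCore p G = ⊥
  · rw [hO, index_bot]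
    exact rcore hψ hf hd hO hgen sub
  obtain ⟨χ', c1, e1, k1⟩ := twist hψ hf (p := p) (by omega) fun q hq => mem_center_iff.2 fun g =>
    ((hgen P (centralizer (pCore p G)) inferInstance fun a ha b hb =>
      (H31.lin_of_faithful hχ hf (H31.degree_eq_charDegree hχ) le_rfl).comm_of_isPGroup hp (by omega) P.isPGroup'
        (H44.pCore_isPGroup.le_sylow_of_normal P hb) ha).ge (mem_top g) q hq).symm
  obtain ⟨φ, c2, f2, e2⟩ := quot c1 _ k1
  rw [← idx (pCore p G) H44.pCore_isPGroup]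
  refine ih _ ?_ _ φ c2 f2 (by omega) rfl
  have h3 := (pCore p G).card_eq_card_quotient_mul_card_subgroup
  have h4 := (pCore p G).one_lt_card_iff_ne_bot.2 hO
  have h5 := Nat.card_pos (α := G ⧸ pCore p G)
  have : Nat.card (G ⧸ pCore p G) < Nat.card G := h3 ▸ lt_mul_of_one_lt_right h5 h4
  omega

end RInd

theorem feit {G : Type*} [Group G] [Finite G] {p : ℕ} [Fact p.Prime] {χ : G → ℂ}
    (hχ : IsCharacter G χ) (hf : Fa χ) (hd : charDegree χ + 1 < p) :
    ¬ p ^ 2 ∣ (pCore p G).index := RInd.aux _ G χ hχ hf hd rfl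

end Cfsg.Agent.L16
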