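import Cfsg.Agent.L16.Defs

set_option autoImplicit false
set_option linter.unusedSectionVars false

namespace Cfsg.Agent.L16

open Subgroup Cfsg Cfsg.Agent.H35 Cfsg.Agent.H34

variable {G : Type*} [Group G] [Finite G] {p : ℕ} [Fact p.Prime]

theorem quot_iso {H : Subgroup G} (h : ∀ g : G, ∃ a ∈ H, ∃ z ∈ center G, g = a * z) :
    Nonempty (G ⧸ center G ≃* H ⧸ center H) := by
  let f := (QuotientGroup.mk' (center G)).comp H.subtype
  have h1 : Function.Surjective f := fun c => by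
    obtain ⟨g, rfl⟩ := QuotientGroup.mk_surjective c
    obtain ⟨a, ha, z, hz, rfl⟩ := h g
    exact ⟨⟨a, ha⟩, QuotientGroup.eq.mpr (by simpa using hz)⟩
  have h2 : f.ker = center H := by
    ext a
    rw [MonoidHom.mem_ker, MonoidHom.comp_apply, QuotientGroup.mk'_apply, QuotientGroup.eq_one_iff,
      mem_center_iff, mem_center_iff]
    refine ⟨fun e b => Subtype.ext (e b), fun e g => ?_⟩
    obtain ⟨b, hb, z, hz, rfl⟩ := h g
    have e1 : b * a = a * b := congrArg Subtype.val (e ⟨b, hb⟩)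
    rw [coe_subtype, mul_assoc, ← mem_center_iff.mp hz, ← mul_assoc, e1, mul_assoc]
  exact ⟨(QuotientGroup.quotientKerEquivOfSurjective f h1).symm.trans
    (QuotientGroup.quotientMulEquivOfEq h2)⟩

theorem Concl.of_prod {d : ℕ} {H Q : Subgroup G} (hQ : Q ≤ center G) (hd : H ⊓ Q = ⊥)
    (h : ∀ g : G, ∃ a ∈ H, ∃ z ∈ Q, g = a * z) (hc : Concl p d H) : Concl p d G := by
  obtain ⟨φ⟩ := quot_iso (H := H) fun g => let ⟨a, ha, z, hz, e⟩ := h g; ⟨a, ha, z, hQ hz, e⟩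
  rcases hc with ⟨⟨f⟩, a⟩ | ⟨a, b, A, _, _, ⟨f⟩⟩ | ⟨a, b, ⟨f⟩⟩ | ⟨a, b, ⟨f⟩⟩
  · exact Or.inl ⟨⟨φ.trans f⟩, a⟩
  · refine Or.inr (Or.inl ⟨a, b, ?_⟩)
    let _ : CommGroup Q :=
      { (inferInstance : Group Q) with
        mul_comm := fun a b => Subtype.ext (mem_center_iff.mp (hQ b.2) a) }
    let ψ : H × Q →* G := H.subtype.noncommCoprod Q.subtype fun a z => mem_center_iff.mp (hQ z.2) a
    have h1 : Function.Bijective ψ := ⟨(injective_iff_map_eq_one ψ).mpr fun ⟨a, z⟩ e => by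
      have e1 : (a : G) = (z : G)⁻¹ := eq_inv_of_mul_eq_one_left e
      have e2 : (a : G) = 1 := mem_bot.mp (hd ▸ mem_inf.mpr ⟨a.2, e1 ▸ Q.inv_mem z.2⟩)
      exact Prod.ext (Subtype.ext e2) (Subtype.ext (inv_eq_one.mp (e1.symm.trans e2))), fun g => by
      obtain ⟨a, ha, z, hz, rfl⟩ := h g
      exact ⟨(⟨a, ha⟩, ⟨z, hz⟩), rfl⟩⟩
    exact ⟨A × Shrink.{0} Q, inferInstance, inferInstance, ⟨(MulEquiv.ofBijective ψ h1).symm.trans
      ((f.prodCongr (Shrink.mulEquiv.{0} (α := Q)).symm).trans MulEquiv.prodAssoc)⟩⟩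
  · exact Or.inr (Or.inr (Or.inl ⟨a, b, ⟨φ.trans f⟩⟩))
  · exact Or.inr (Or.inr (Or.inr ⟨a, b, ⟨φ.trans f⟩⟩))

theorem red (S : Setup G p) {ζ : G → ℂ} (hζ : IsIrrCharacter G ζ) (hf : Fa ζ)
    (hd : charDegree ζ + 1 < p) (hd' : p < 2 * charDegree ζ) (hn : Nat.card (Sylow p G) ≠ 1) :
    ∃ (H : Subgroup G) (T : Setup H p) (ξ : IrrCharacter H) (e : ℕ),
      Cf p (charDegree ζ) e T ξ ∧ Nat.card (Sylow p H) ≠ 1 ∧
        ∀ g : G, ∃ a ∈ H, ∃ z ∈ center G, g = a * z := by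
  classical
  have hp : p.Prime := Fact.out
  have := Fintype.ofFinite G
  have hc := H5.isCharacter_of_isIrr hζ
  have hH := S.perfect_normalClosure hc hf hd hn
  set H := normalClosure ({S.x} : Set G) with hHd
  have := Fintype.ofFinite H
  have hx : S.x ∈ H := subset_normalClosure rfl
  obtain ⟨T, hT⟩ := S.exists_setup_sub hx
  have h1 := S.index_mul_index hx T hT
  have h2 : T.V.index ≤ S.V.index := Nat.le_of_dvd (Nat.pos_of_ne_zero index_ne_zero_of_finite)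
    ⟨_, h1.symm⟩
  have hx1 : ζ S.x ≠ ζ 1 := fun e => hp.ne_one (by rw [← S.hx, hf _ e, orderOf_one])
  have he := lt_of_dvd_pred S.index_dvd_pred
  obtain ⟨θ, B, hY, ⟨a1, a2⟩ | ⟨a1, a2, a3, a4, a5⟩⟩ := S.below_pred (χ := ⟨ζ, hζ⟩) hd hx1
  · obtain ⟨C, c1, -, c2⟩ := bl_plus_supp S B hY a1 a2
    change charDegree ζ = _ at a2
    obtain b | b : charDegree (θ : S.V → ℂ) = 1 ∨ 2 ≤ charDegree (θ : S.V → ℂ) := by
      have := degree_pos θ; omega
    · obtain ⟨t, ht⟩ := S.index_dvd_pred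
      rw [b, mul_one] at a2
      rcases t with _ | _ | t <;> [omega; omega; (simp only [mul_add] at ht; omega)]
    have b1 := Nat.mul_le_mul_left S.V.index b
    by_cases hp6 : 6 ≤ p
    · have b2 := T.pred_le_two_mul_index hH ((S.card_sylow_normal hx).trans
        (Setup.card_sylow_eq_of_le hn (bl_few_eigen S hζ hf hd hp6 (C := C) (by omega) c2)))
      omega
    · have b2 := T.index_ne_one hH
      have b3 : T.V.index ≠ 0 := index_ne_zero_of_finite
      omega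
  change charDegree ζ + _ = p at a4
  obtain ⟨lam, hl⟩ := H5.exists_monoidHom_of_degree_one (H5.isCharacter_of_isIrr θ.2)
    (by rw [cast_degree_irr, a3, Nat.cast_one])
  have hV : ∀ v : S.V, ((v : S.K) : G) ∈ center G := fun v => mem_center_of_norm hc hf (by
    rw [show ζ _ = _ from a5 v, norm_mul, hl, H5.norm_monoidHom, mul_one, cast_degree hc])
  obtain ⟨θ, hθ⟩ := θ
  obtain rfl : θ = _ := hl
  obtain ⟨m, b1, b2⟩ := blM_neg a2 B hY a1
  obtain rfl : m = 0 := by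
    rw [show charDegree _ + _ = p from a4] at b1
    simpa [mul_add, hp.ne_zero] using b1
  have b3 := le_antisymm h2 (bl_index_eq S hζ hf a4 (by omega)
    (by simpa [zero_not_mem_blOrb] using b2 0) hH hx T hT)
  have b4 := S.exists_mul_V hx (by
    rw [b3] at h1; exact (Nat.mul_eq_left index_ne_zero_of_finite).mp h1)
  have b4' : ∀ g : G, ∃ a ∈ H, ∃ z ∈ center G, g = a * z := fun g =>
    let ⟨a, ha, v, e⟩ := b4 g; ⟨a, ha, _, hV v, e⟩
  have b5 := isIrr_restrict_of_center hζ H b4'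
  have b6 : ∀ v : T.V, (((v : T.K) : H) : G) ∈ center G := fun v => by
    obtain ⟨w, hw⟩ := S.exists_eq_of_regular (c := ((v : T.K) : H))
      (by simpa [hT] using (T.commute_x v).map H.subtype) (by
        rw [orderOf_coe]; exact T.not_dvd_orderOf _)
    exact hw ▸ hV w
  refine ⟨H, T, ⟨_, b5⟩, S.V.index, ⟨hH, fun g hg => Subtype.ext (hf g hg), rfl, b3, a4, by omega,
    hd', fun v => mem_center_iff.mpr fun g => Subtype.ext (mem_center_iff.mp (b6 v) g), ?_⟩,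
    S.card_sylow_normal hx ▸ hn, b4'⟩
  let N := (normalClosure ({T.x} : Set H)).map H.subtype
  have hN : N.Normal := ⟨fun n hn g => by
    obtain ⟨n, hn, rfl⟩ := hn
    obtain ⟨a, ha, z, hz, rfl⟩ := b4' g
    refine ⟨_, normalClosure_normal.conj_mem n hn ⟨a, ha⟩, ?_⟩
    rw [mul_assoc a z, ← mem_center_iff.mp hz, mul_inv_rev]
    simp [mul_assoc]⟩
  refine eq_top_iff.mpr fun a _ => ?_
  obtain ⟨b, hb, e⟩ := normalClosure_le_normal (N := N) (s := {S.x}) (Set.singleton_subset_iff.mpr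
    ⟨T.x, subset_normalClosure rfl, by rw [hT]; rfl⟩) a.2
  exact (Subtype.ext e : b = a) ▸ hb

end Cfsg.Agent.L16
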