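import Cfsg.Agent.L16.Defs
import Cfsg.Agent.H31.Ito
import Cfsg.Agent.H3.Transfer2

/-! Structure of a linear group of small degree whose Sylow subgroup is not normal. -/

set_option autoImplicit false
set_option linter.unusedSectionVars false

namespace Cfsg.Agent.L16

open Subgroup Cfsg Cfsg.Agent.H35
open scoped commutatorElement

variable {G : Type*} [Group G] [Finite G] {p : ℕ} [Fact p.Prime] {χ : G → ℂ}

theorem St.fa (hf : Fa χ) (K : Subgroup G) : Fa fun k : K => χ k :=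
  fun g hg => Subtype.ext (hf g hg)

theorem St.pw {P : Subgroup G} (hP : IsPGroup p P) {a : G} (ha : a ∈ P) : ∃ k, a ^ p ^ k = 1 :=
  (hP ⟨a, ha⟩).imp fun _ h => congrArg Subtype.val h

theorem normal_of_small (hχ : IsCharacter G χ) (hf : Fa χ) (hd : 2 * charDegree χ + 1 < p)
    (P : Sylow p G) : (P : Subgroup G).Normal := by
  refine H31.feit_thompson_sylow_aux (n := charDegree χ) (by omega) _ G rfl
    (H31.lin_of_faithful hχ hf (H31.degree_eq_charDegree hχ) le_rfl) (.inr ?_) P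
  rintro K hK x hx y hy ⟨a, ha⟩ ⟨b, hb⟩
  obtain ⟨R⟩ : Nonempty (Sylow p K) := inferInstance
  have hR : (R : Subgroup K).Normal := by
    by_cases h : p ∣ Nat.card K
    · obtain ⟨z, hz⟩ := exists_prime_orderOf_dvd_card' p h
      obtain ⟨S, -⟩ := exists_setup hz hK
      have h1 : Nat.card (Sylow p K) = 1 := by
        by_contra hn
        have := (S.small_degree (H5.isCharacter_restrict hχ K) (St.fa hf K) (Nat.le_of_succ_le hd.le) hn).2.2.1
        change 2 * charDegree χ = _ at this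
        omega
      have := (Nat.card_eq_one_iff_unique.1 h1).1
      exact R.normal_of_subsingleton
    · rw [H44.eq_bot_of_isPGroup_of_coprime R.isPGroup'
        (H44.coprime_iff_not_dvd.2 fun h' => h (h'.trans (card_subgroup_dvd_card _)))]
      infer_instance
  obtain ⟨c, hc⟩ := St.pw R.isPGroup' (mul_mem
    (H81.mem_sylow_of_normal R hR (g := ⟨x, hx⟩) (Subtype.ext ha))
    (H81.mem_sylow_of_normal R hR (g := ⟨y, hy⟩) (Subtype.ext hb)))
  exact ⟨c, congrArg Subtype.val hc⟩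

theorem st (hχ : IsCharacter G χ) (hf : Fa χ) (hd : charDegree χ + 1 < p)
    (hF : ¬ p ^ 2 ∣ (pCore p G).index) (P : Sylow p G) (hP : ¬ (P : Subgroup G).Normal) :
    ∃ (K : Subgroup G) (x : G), Kd p K x ∧ K.Normal ∧ x ∈ (P : Subgroup G) ∧
      (∀ q ∈ pCore p G, ∀ k ∈ K, Commute q k) ∧ (pCore p G).relIndex P = p ∧
      ∀ a ∈ (P : Subgroup G), ∃ q ∈ pCore p G, ∃ i : ℕ, a = x ^ i * q := by
  have hp : p.Prime := Fact.out
  have lin := H31.lin_of_faithful hχ hf (H31.degree_eq_charDegree hχ) le_rfl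
  have ab : ∀ {a b : G}, a ∈ (P : Subgroup G) → b ∈ (P : Subgroup G) → a * b = b * a :=
    lin.comm_of_isPGroup hp (by omega) P.isPGroup'
  have := H44.pCore_characteristic (p := p) (G := G)
  have Qp := H44.pCore_isPGroup (p := p) (G := G)
  have lQ := @H44.le_pCore G _ p
  generalize pCore p G = Q at *
  have QP : Q ≤ P := Qp.le_sylow_of_normal P
  obtain ⟨n, hn⟩ := P.isPGroup'.exists_card_eq
  have idx : Q.relIndex P = p := by
    obtain ⟨k, -, hk⟩ := (Nat.dvd_prime_pow hp).1 (hn ▸ relIndex_dvd_card Q P)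
    rcases k with _ | _ | k
    · exact absurd (le_antisymm QP (relIndex_eq_one.1 hk) ▸ inferInstance) hP
    · rw [hk, zero_add, pow_one]
    · exact absurd ((pow_dvd_pow p (by omega)).trans (hk ▸ relIndex_dvd_index_of_normal Q P)) hF
  obtain ⟨N, hN⟩ : ∃ N, N = normalClosure ((P : Subgroup G) : Set G) := ⟨_, rfl⟩
  have : N.Normal := hN ▸ inferInstance
  have PN : (P : Subgroup G) ≤ N := hN ▸ le_normalClosure
  have NC : N ≤ centralizer (Q : Set G) :=
    hN ▸ normalClosure_le_normal fun a ha q hq => ab (QP hq) ha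
  have DN : ⁅N, N⁆ ≤ N := commutator_le_left N N
  have DQ : ⁅N, N⁆ ⊓ Q = ⊥ := eq_bot_iff.2 fun q ⟨h1, h2⟩ => by
    have h3 := H3.center_inf_commutator_inf_sylow_le (P.subtype PN) (x := ⟨q, DN h1⟩)
      ⟨⟨mem_center_iff.2 fun g => Subtype.ext (NC g.2 q h2).symm, by
        rw [← map_subtype_commutator] at h1
        obtain ⟨q', h3, rfl⟩ := h1
        exact h3⟩, QP h2⟩
    rw [commutator_eq_bot_iff_le_centralizer.2 fun a ha b hb => Subtype.ext (ab hb ha)] at h3
    exact congrArg Subtype.val h3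
  have Dsq : ¬ p ^ 2 ∣ Nat.card (⁅N, N⁆ : Subgroup G) := fun h => hF (h.trans (by
    rw [← relIndex_bot_left, ← DQ, inf_comm, inf_relIndex_right]
    exact relIndex_dvd_index_of_normal Q _))
  have Dp : p ∣ Nat.card (⁅N, N⁆ : Subgroup G) := by
    by_contra h
    have h1 := (lin.subgroup (⁅N, N⁆ ⊔ P)).sylow_normal_of_isPSolvable hd
      (H22.isPSolvable_of_normal_of_quotient (⁅N, N⁆.subgroupOf _)
        (H22.isPSolvable_of_coprime (by
          rw [Nat.card_congr (subgroupOfEquivOfLe le_sup_left).toEquiv]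
          exact H44.coprime_iff_not_dvd.2 h))
        (H22.isPSolvable_of_isPGroup (by
          obtain ⟨k, -, hk⟩ := (Nat.dvd_prime_pow hp).1 (hn ▸ relIndex_dvd_card ⁅N, N⁆ P)
          exact .of_card ((relIndex_sup_left _ _).trans hk)))) (P.subtype le_sup_right)
    refine hP ⟨fun a ha g => ?_⟩
    obtain ⟨m, hm, h, hh, rfl⟩ := mem_sup_of_normal_right.1
      ((P.normalizer_sup_eq_top' PN).ge (mem_top g⁻¹)) |>.imp fun m h => h.imp_right fun h =>
        h.imp fun h h' => h'.imp_right fun e => (inv_eq_iff_eq_inv.1 e.symm : g = _)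
    have h2 : m⁻¹ * a * m ∈ (P : Subgroup G) := (mem_normalizer_iff''.1 hm a).1 ha
    obtain ⟨k, hk⟩ := St.pw P.isPGroup' ha
    have h3 : (m * h)⁻¹ * a * (m * h)⁻¹⁻¹ ∈ ⁅N, N⁆ ⊔ (P : Subgroup G) := by
      convert mul_mem_sup (commutator_mem_commutator (inv_mem hh) (PN h2)) h2 using 1
      rw [commutatorElement_def]; group
    exact H81.mem_sylow_of_normal _ h1 (g := ⟨_, h3⟩) (k := k)
      (Subtype.ext (by rw [SubgroupClass.coe_pow, conj_pow, hk]; simp))
  obtain ⟨x, xD, xP, ox⟩ : ∃ x ∈ ⁅N, N⁆, x ∈ (P : Subgroup G) ∧ orderOf x = p := by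
    obtain ⟨y, hy⟩ := exists_prime_orderOf_dvd_card' p Dp
    rw [← orderOf_coe] at hy
    obtain ⟨R, hR⟩ := (IsPGroup.of_card (n := 1) (G := zpowers (y : G))
      (by rw [Nat.card_zpowers, hy, pow_one])).exists_le_sylow
    obtain ⟨g, rfl⟩ := MulAction.exists_smul_eq G R P
    exact ⟨g * y * g⁻¹, Normal.conj_mem inferInstance _ y.2 g,
      smul_mem_pointwise_smul (y : G) (MulAut.conj g) _ (hR (mem_zpowers _)),
      ((MulAut.conj g).orderOf_eq y).trans hy⟩
  have xQ : x ∉ Q := fun h => hp.one_lt.ne' (ox.symm.trans (orderOf_eq_one_iff.2 (DQ.le ⟨xD, h⟩)))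
  have KD : normalClosure {x} ≤ ⁅N, N⁆ := normalClosure_le_normal (Set.singleton_subset_iff.2 xD)
  have xK : x ∈ normalClosure {x} := subset_normalClosure rfl
  have Ksq : ¬ p ^ 2 ∣ Nat.card (normalClosure {x}) := fun h => Dsq (h.trans (card_dvd_of_le KD))
  have ox' : orderOf (⟨x, xK⟩ : normalClosure {x}) = p := (orderOf_coe _).symm.trans ox
  have gen : normalClosure ({⟨x, xK⟩} : Set (normalClosure {x})) = ⊤ := by
    refine eq_top_iff.2 fun k _ => ?_
    suffices normalClosure {x} ≤ (normalClosure ({⟨x, xK⟩} : Set (normalClosure {x}))).map (Subgroup.subtype _) by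
      obtain ⟨k', h, e⟩ := this k.2
      rwa [← (Subtype.ext e : k' = k)]
    refine (closure_le _).2 fun y hy => ?_
    have yK : y ∈ normalClosure {x} := subset_closure hy
    obtain ⟨x', hx', hc⟩ := Group.mem_conjugatesOfSet_iff.1 hy
    rw [Set.mem_singleton_iff.1 hx'] at hc
    obtain ⟨c, rfl⟩ := isConj_iff.1 hc
    obtain ⟨g, hg⟩ := exists_conj_mem_zpowers ox' Ksq (y := ⟨_, yK⟩)
      ((orderOf_coe _).symm.trans (((MulAut.conj c).orderOf_eq _).trans ox))
    have h1 := normalClosure_normal.conj_mem' _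
      (zpowers_le.2 (subset_normalClosure (Set.mem_singleton _)) hg) g
    rw [mul_assoc, inv_mul_cancel_right, inv_mul_cancel_left] at h1
    exact ⟨⟨_, yK⟩, h1, rfl⟩
  refine ⟨normalClosure {x}, x, ⟨xK, ox, ?_, Ksq, gen⟩, inferInstance, xP,
    fun q hq k hk => NC (DN (KD hk)) q hq, idx, fun a ha => ?_⟩
  · obtain ⟨S, hS⟩ := exists_setup ox' Ksq
    have h1 := S.perfect_normalClosure (H5.isCharacter_restrict hχ _) (St.fa hf _) hd fun h => by
      rw [S.card_sylow, index_eq_one, normalizer_eq_top_iff, hS] at h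
      have h2 : (⊤ : Subgroup (normalClosure {x})) ≤ zpowers ⟨x, xK⟩ :=
        gen.ge.trans (normalClosure_le_normal (Set.singleton_subset_iff.2 (mem_zpowers _)))
      refine xQ (lQ inferInstance (P.isPGroup'.to_le fun k hk => ?_) xK)
      obtain ⟨i, hi⟩ := h2 (mem_top ⟨k, hk⟩)
      have e : x ^ i = k := congrArg Subtype.val hi
      exact e ▸ zpow_mem xP i
    rw [hS, gen, ← Group.isPerfect_def, Group.IsPerfect.top_iff] at h1
    exact h1.1
  · have h1 := relIndex_mul_relIndex Q (zpowers x ⊔ Q) P le_sup_right (sup_le (zpowers_le.2 xP) QP)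
    rw [idx] at h1
    have h2 : (P : Subgroup G) ≤ zpowers x ⊔ Q := relIndex_eq_one.1 (by
      rcases (Nat.dvd_prime hp).1 (Dvd.intro _ h1) with h | h
      · exact absurd (relIndex_eq_one.1 h (mem_sup_left (mem_zpowers x))) xQ
      · rw [h] at h1
        exact (Nat.mul_eq_left hp.ne_zero).1 h1)
    obtain ⟨y, hy, q, hq, rfl⟩ := mem_sup_of_normal_right.1 (h2 ha)
    obtain ⟨i, rfl⟩ := mem_powers_iff_mem_zpowers.2 hy
    exact ⟨q, hq, i, rfl⟩

theorem st_sub (hχ : IsCharacter G χ) (hf : Fa χ) (hd : charDegree χ + 1 < p) (C : Subgroup G)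
    (hF : ¬ p ^ 2 ∣ (pCore p C).index) (R : Sylow p C) (hR : ¬ (R : Subgroup C).Normal) :
    ∃ (K : Subgroup G) (x : G), Kd p K x ∧ K ≤ C ∧ x ∈ (R : Subgroup C).map C.subtype ∧
      (∀ q ∈ pCoreOf p C, ∀ k ∈ K, Commute q k) ∧
      (pCoreOf p C).relIndex ((R : Subgroup C).map C.subtype) = p ∧
      ∀ a ∈ (R : Subgroup C).map C.subtype, ∃ q ∈ pCoreOf p C, ∃ i : ℕ, a = x ^ i * q := by
  obtain ⟨K, x, hK, -, xR, h1, h2, h3⟩ := st (H5.isCharacter_restrict hχ C) (St.fa hf C) hd hF R hR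
  have e := K.equivMapOfInjective C.subtype C.subtype_injective
  refine ⟨K.map C.subtype, x, ⟨⟨x, hK.mem, rfl⟩, (orderOf_coe x).trans hK.ord, ?_, ?_, ?_⟩, map_subtype_le K,
    ⟨x, xR, rfl⟩, ?_, (relIndex_map_map_of_injective _ _ C.subtype_injective).trans h2, ?_⟩
  · have := Group.isPerfect_def.2 hK.perf
    exact (Group.IsPerfect.map C.subtype).1
  · rw [card_map_of_injective C.subtype_injective]
    exact hK.sq
  · have := map_normalClosure {⟨x, hK.mem⟩} (C.subtype.subgroupMap K) (C.subtype.subgroupMap_surjective K)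
    rw [hK.gen, map_top_of_surjective _ (C.subtype.subgroupMap_surjective K), Set.image_singleton] at this
    exact this.symm
  · rintro _ ⟨q, hq, rfl⟩ _ ⟨k, hk, rfl⟩
    exact (h1 q hq k hk).map C.subtype
  · rintro _ ⟨a, ha, rfl⟩
    obtain ⟨q, hq, i, rfl⟩ := h3 a ha
    exact ⟨q, ⟨q, hq, rfl⟩, i, rfl⟩

end Cfsg.Agent.L16
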